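import Cfsg.Agent.Lib.LocalEven.OnePointFront.Data
import Cfsg.Agent.Lib.LocalEven.TIEndgame.Classify
import Cfsg.Agent.Lib.Involution.Basic

/-!
# The translates of a bad involution moving a member

`K` is a normal subgroup of the stabiliser of `a` whose involutions are the members at `a`.  If the
bad involution `u` does not centralise the members of the maximal 2-subgroup `S`, then an element of
`S ⊓ K` normalises `R⟨u⟩` and moves `u` inside `u R`; with a torus, `u` is conjugate in `K` to every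
element of `u R` by elements normalising `R⟨u⟩`.
-/

set_option autoImplicit false
set_option linter.unusedSectionVars false

namespace CfsgLib.LocalEven.OnePointFront.Nonfull

open MulAction CfsgLib.LocalEven.TIEndgame CfsgLib.Involution

universe u

variable {G Ω : Type u} [Group G] [Finite G] [MulAction G Ω] {D : Set G}

/-- An element normalising `R` and moving `u` inside `u R` normalises `R ⊔ ⟨u⟩`. -/
theorem mem_normalizer_sup {R : Subgroup G} {g u r : G} (hR : g ∈ Subgroup.normalizer (R : Set G))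
    (hr : r ∈ R) (hu : g * u * g⁻¹ = u * r) :
    g ∈ Subgroup.normalizer ((R ⊔ Subgroup.zpowers u : Subgroup G) : Set G) := by
  have hle : (R ⊔ Subgroup.zpowers u).map (MulAut.conj g).toMonoidHom ≤
      R ⊔ Subgroup.zpowers u := by
    rw [Subgroup.map_sup, sup_le_iff]
    constructor
    · rintro _ ⟨y, hy, rfl⟩
      exact Subgroup.mem_sup_left ((Subgroup.mem_normalizer_iff.1 hR y).1 hy)
    · rw [MonoidHom.map_zpowers, Subgroup.zpowers_le]
      show g * u * g⁻¹ ∈ R ⊔ Subgroup.zpowers u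
      rw [hu]
      exact mul_mem (Subgroup.mem_sup_right (Subgroup.mem_zpowers u)) (Subgroup.mem_sup_left hr)
  have heq := Subgroup.eq_of_le_of_card_ge hle
    (Subgroup.card_map_of_injective (MulAut.conj g).injective).ge
  rw [Subgroup.mem_normalizer_iff]
  intro y
  refine ⟨fun hy => hle ⟨y, hy, rfl⟩, fun hy => ?_⟩
  obtain ⟨z, hz, hzy⟩ : g * y * g⁻¹ ∈ (R ⊔ Subgroup.zpowers u).map (MulAut.conj g).toMonoidHom := by
    rw [heq]; exact hy
  have : z = y := mul_left_cancel (mul_right_cancel hzy)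
  rwa [← this]

variable {a : Ω} {u : G} {K S R : Subgroup G}

/-- An element of `S ⊓ K` normalising `R` moves `u` to a different element of `u R`. -/
theorem exists_move (h : ClosedSetting D Ω)
    (hKn : ∀ g : G, g • a = a → ∀ k ∈ K, g * k * g⁻¹ ∈ K)
    (hKinv : ∀ k ∈ K, orderOf k = 2 → k ∈ D) (hKD : ∀ d ∈ D, d • a = a → d ∈ K)
    (hu : IsBad Ω u) (hS : IsPGroup 2 S) (hSa : S ≤ stabilizer G a) (huS : u ∈ S)
    (hR : ∀ r : G, r ∈ R ↔ r = 1 ∨ (r ∈ D ∧ r ∈ S ∧ Commute u r))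
    (hmove : ∃ d ∈ D, d ∈ S ∧ ¬ Commute u d) :
    ∃ x ∈ S ⊓ K, x ∈ Subgroup.normalizer (R : Set G) ∧
      x ∈ Subgroup.normalizer ((R ⊔ Subgroup.zpowers u : Subgroup G) : Set G) ∧
      ∃ r ∈ R, r ≠ 1 ∧ x * u * x⁻¹ = u * r := by
  haveI : Fact (Nat.Prime 2) := ⟨Nat.prime_two⟩
  have huu : u * u = 1 := Dihedral.mul_self hu.1
  have huinv : u⁻¹ = u := Dihedral.inv_eq hu.1
  have huK : u ∉ K := fun hk => by
    obtain ⟨-, p, q, hpq, hp, hq⟩ := id hu
    exact hpq (h.fixed_unique u (hKinv u hk hu.1) p q hp hq)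
  set T : Subgroup G := S ⊓ K with hT
  have hnT : ∀ y ∈ T, u * y * u ∈ T := fun y hy => by
    refine Subgroup.mem_inf.2 ⟨mul_mem (mul_mem huS hy.1) huS, ?_⟩
    have h1 := hKn u (mem_stabilizer_iff.1 (hSa huS)) y hy.2
    rwa [huinv] at h1
  let U : Subgroup G :=
    { carrier := {g | g ∈ T ∨ g * u ∈ T}
      one_mem' := Or.inl (one_mem T)
      mul_mem' := by
        rintro g g' (hg | hg) (hg' | hg')
        · exact Or.inl (mul_mem hg hg')
        · exact Or.inr (by rw [mul_assoc]; exact mul_mem hg hg')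
        · refine Or.inr ?_
          have e : g * g' * u = (g * u) * (u * g' * u) := by
            calc g * g' * u = g * (u * u) * g' * u := by rw [huu, mul_one]
              _ = _ := by group
          rw [e]
          exact mul_mem hg (hnT g' hg')
        · refine Or.inl ?_
          have e : g * g' = (g * u) * (u * (g' * u) * u) := by
            calc g * g' = g * (u * u) * g' * (u * u) := by rw [huu, mul_one, mul_one]
              _ = _ := by group
          rw [e]
          exact mul_mem hg (hnT _ hg')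
      inv_mem' := by
        rintro g (hg | hg)
        · exact Or.inl (inv_mem hg)
        · refine Or.inr ?_
          have e : g⁻¹ * u = u * (g * u)⁻¹ * u := by
            rw [mul_inv_rev, ← mul_assoc, mul_inv_cancel, one_mul]
          rw [e]
          exact hnT _ (inv_mem hg) }
  have huU : u ∈ U := Or.inr (huu.symm ▸ one_mem T)
  have hTU : T ≤ U := fun g hg => Or.inl hg
  have hUS : U ≤ S := by
    rintro g (hg | hg)
    · exact hg.1
    · have := mul_mem (Subgroup.mem_inf.1 hg).1 (inv_mem huS)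
      rwa [mul_inv_cancel_right] at this
  set C : Subgroup U := (Subgroup.centralizer ({u} : Set G)).subgroupOf U with hC
  have hCne : C < ⊤ := by
    refine lt_of_le_of_ne le_top fun e => ?_
    obtain ⟨d, hd, hdS, hud⟩ := hmove
    have hdU : d ∈ U :=
      hTU (Subgroup.mem_inf.2 ⟨hdS, hKD d hd (mem_stabilizer_iff.1 (hSa hdS))⟩)
    have hd' : (⟨d, hdU⟩ : U) ∈ C := e ▸ Subgroup.mem_top _
    exact hud (Subgroup.mem_centralizer_singleton_iff.1 hd').symm
  haveI : Group.IsNilpotent U := (hS.to_le hUS).isNilpotent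
  obtain ⟨y, hy, hyC⟩ := SetLike.exists_of_lt (Group.normalizerCondition_of_isNilpotent (G := U) C hCne)
  -- replace `y` by an element of `T`
  obtain ⟨x, hxT, hxn, hxC⟩ : ∃ x : U, (x : G) ∈ T ∧ x ∈ Subgroup.normalizer (C : Set U) ∧ x ∉ C := by
    rcases y.2 with h' | h'
    · exact ⟨y, h', hy, hyC⟩
    · have huC : (⟨u, huU⟩ : U) ∈ C := Subgroup.mem_centralizer_singleton_iff.2 rfl
      refine ⟨y * ⟨u, huU⟩, h', mul_mem hy (Subgroup.le_normalizer huC), fun hc => hyC ?_⟩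
      have := mul_mem hc (inv_mem huC)
      rwa [mul_inv_cancel_right] at this
  have hxS : (x : G) ∈ S := hxT.1
  have hxa : (x : G) • a = a := mem_stabilizer_iff.1 (hSa hxS)
  have hconj : ∀ g : G, g ∈ U → Commute u g →
      Commute u ((x : G) * g * (x : G)⁻¹) ∧ Commute u ((x : G)⁻¹ * g * (x : G)) := by
    intro g hg hug
    have hgC : (⟨g, hg⟩ : U) ∈ C := Subgroup.mem_centralizer_singleton_iff.2 hug.symm.eq
    refine ⟨(Subgroup.mem_centralizer_singleton_iff.1
      ((Subgroup.mem_normalizer_iff.1 hxn _).1 hgC)).symm, ?_⟩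
    have h1 := (Subgroup.mem_normalizer_iff.1 (inv_mem hxn) _).1 hgC
    rw [inv_inv] at h1
    exact (Subgroup.mem_centralizer_singleton_iff.1 h1).symm
  -- `x` normalises `R`
  have hRU : ∀ r ∈ R, r ∈ U ∧ Commute u r := by
    intro r hr
    rcases (hR r).1 hr with rfl | ⟨hrD, hrS, hur⟩
    · exact ⟨one_mem U, Commute.one_right u⟩
    · exact ⟨hTU (Subgroup.mem_inf.2 ⟨hrS, hKD r hrD (mem_stabilizer_iff.1 (hSa hrS))⟩), hur⟩
  have hxR : (x : G) ∈ Subgroup.normalizer (R : Set G) := by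
    have key : ∀ g ∈ S, (∀ y ∈ U, Commute u y → Commute u (g * y * g⁻¹)) →
        ∀ r ∈ R, g * r * g⁻¹ ∈ R := by
      intro g hg hgc r hr
      rcases (hR r).1 hr with rfl | ⟨hrD, hrS, hur⟩
      · simp [one_mem]
      · exact (hR _).2 (Or.inr ⟨h.conj_mem g r hrD, mul_mem (mul_mem hg hrS) (inv_mem hg),
          hgc r (hRU r hr).1 hur⟩)
    rw [Subgroup.mem_normalizer_iff]
    intro r
    refine ⟨key x hxS (fun y hy hyu => (hconj y hy hyu).1) r, fun hr => ?_⟩
    have h1 := key (x : G)⁻¹ (inv_mem hxS) (fun y hy hyu => by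
      rw [inv_inv]; exact (hconj y hy hyu).2) _ hr
    simpa [mul_assoc] using h1
  -- the translation
  obtain ⟨hcomm, -⟩ := hconj u huU (Commute.refl u)
  set r := u * ((x : G) * u * (x : G)⁻¹) with hr
  have hrT : r ∈ T := by
    have e : r = (u * (x : G) * u) * (x : G)⁻¹ := by rw [hr]; group
    rw [e]
    exact mul_mem (hnT _ hxT) (inv_mem hxT)
  have hr1 : r ≠ 1 := fun e => hxC (Subgroup.mem_centralizer_singleton_iff.2 (by
    have h1 : (x : G) * u * (x : G)⁻¹ = u :=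
      ((mul_eq_one_iff_inv_eq.1 (hr ▸ e)).symm.trans huinv)
    exact mul_inv_eq_iff_eq_mul.1 h1))
  have hrr : r * r = 1 := by
    rw [hr, hcomm.symm.mul_mul_mul_comm, huu, one_mul]
    calc (x : G) * u * (x : G)⁻¹ * ((x : G) * u * (x : G)⁻¹)
        = (x : G) * (u * u) * (x : G)⁻¹ := by group
      _ = 1 := by rw [huu, mul_one, mul_inv_cancel]
  have hrR : r ∈ R := (hR r).2 (Or.inr ⟨hKinv r hrT.2 (orderOf_eq_prime (by rw [pow_two, hrr]) hr1),
    hrT.1, (Commute.refl u).mul_right hcomm⟩)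
  have hxu : (x : G) * u * (x : G)⁻¹ = u * r := by
    rw [hr, ← mul_assoc, huu, one_mul]
  exact ⟨x, hxT, hxR, mem_normalizer_sup hxR hrR hxu, r, hrR, hr1, hxu⟩

/-- With a torus, `u` is conjugate in `K` to every element of `u R`, which are all bad. -/
theorem orbit (h : ClosedSetting D Ω)
    (hKn : ∀ g : G, g • a = a → ∀ k ∈ K, g * k * g⁻¹ ∈ K)
    (hKinv : ∀ k ∈ K, orderOf k = 2 → k ∈ D) (hKD : ∀ d ∈ D, d • a = a → d ∈ K)
    (hu : IsBad Ω u) (hS : IsPGroup 2 S) (hSa : S ≤ stabilizer G a) (huS : u ∈ S)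
    (hR : ∀ r : G, r ∈ R ↔ r = 1 ∨ (r ∈ D ∧ r ∈ S ∧ Commute u r))
    (hmove : ∃ d ∈ D, d ∈ S ∧ ¬ Commute u d)
    (htorus : ∀ r ∈ R, r ≠ 1 → ∀ s ∈ R, s ≠ 1 → ∃ g : G, g • a = a ∧ Commute u g ∧
      g ∈ Subgroup.normalizer (R : Set G) ∧ g * r * g⁻¹ = s) :
    ∀ r ∈ R, (∃ k ∈ K, k ∈ Subgroup.normalizer (R : Set G) ∧
      k ∈ Subgroup.normalizer ((R ⊔ Subgroup.zpowers u : Subgroup G) : Set G) ∧
      k * u * k⁻¹ = u * r) ∧ IsBad Ω (u * r) := by
  obtain ⟨x, hx, hxR, -, r₀, hr₀, hr₀1, hxu⟩ := exists_move h hKn hKinv hKD hu hS hSa huS hR hmove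
  intro r hr
  suffices hk : ∃ k ∈ K, k ∈ Subgroup.normalizer (R : Set G) ∧ k * u * k⁻¹ = u * r by
    obtain ⟨k, hkK, hkR, hku⟩ := hk
    exact ⟨⟨k, hkK, hkR, mem_normalizer_sup hkR hr hku, hku⟩, hku ▸ isBad_conj k hu⟩
  by_cases hr1 : r = 1
  · subst hr1
    exact ⟨1, one_mem K, one_mem _, by simp⟩
  obtain ⟨g, hga, hgu, hgR, hgr⟩ := htorus r₀ hr₀ hr₀1 r hr hr1
  refine ⟨g * x * g⁻¹, hKn g hga x hx.2, mul_mem (mul_mem hgR hxR) (inv_mem hgR), ?_⟩
  have h1 : g⁻¹ * u * g = u := by rw [mul_assoc, hgu.eq, inv_mul_cancel_left]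
  calc g * x * g⁻¹ * u * (g * x * g⁻¹)⁻¹ = g * (x * (g⁻¹ * u * g) * x⁻¹) * g⁻¹ := by group
    _ = g * (u * r₀) * g⁻¹ := by rw [h1, hxu]
    _ = (g * u * g⁻¹) * (g * r₀ * g⁻¹) := by group
    _ = u * r := by rw [hgr, hgu.symm.eq, mul_inv_cancel_right]

end CfsgLib.LocalEven.OnePointFront.Nonfull
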