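import Cfsg.Agent.Lib.LocalEven.OnePointFront.Setup
import Cfsg.Agent.Lib.LocalEven.TIEndgame.PairCore
import Cfsg.Agent.Lib.LocalEven.TIEndgame.CentralFusionImage
import Cfsg.Agent.Lib.Components.Signalizer.Basic
import Mathlib.GroupTheory.Transfer

/-!
# The central members of a Sylow subgroup of the group of members at a point

`K` is normal in the stabiliser of `a` and its involutions are the members at `a`; `Z` consists of
the elements of order at most two in the centre of a Sylow 2-subgroup `T` of `K`.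

* For `b ≠ a` the normaliser of `T` in `K · swapCore a b` induces an odd transitive group on `Z`,
  so 2-groups fixing `a`, `b` and normalising `T` induce cyclic groups on it.
* If a Sylow 2-subgroup of the normaliser of `T` in the stabiliser induces a cyclic group on `Z`,
  the stabiliser has a homomorphism onto a cyclic group killing `K` which detects the action on `Z`.
-/

set_option autoImplicit false
set_option linter.style.haveILetI false

namespace CfsgLib.LocalEven.OnePointFront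

open MulAction CfsgLib.LocalEven.TIEndgame CfsgLib.Involution

universe u v

variable {G : Type u} {Ω : Type v} [Group G] [MulAction G Ω]

/-- A normal subgroup of the stabiliser of `a` whose involutions are the members at `a`. -/
structure PointGroup (D : Set G) (a : Ω) (K : Subgroup G) : Prop where
  le : K ≤ stabilizer G a
  conj : ∀ g ∈ stabilizer G a, ∀ k ∈ K, g * k * g⁻¹ ∈ K
  dat_le : ∀ d ∈ dat D a, d ∈ K
  invol_mem : ∀ k ∈ K, orderOf k = 2 → k ∈ dat D a

/-- The elements of order at most two in the centre of `T`. -/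
def omCentre (T : Subgroup G) : Subgroup G where
  carrier := {x | x ∈ T ∧ x * x = 1 ∧ ∀ s ∈ T, Commute x s}
  one_mem' := ⟨one_mem _, one_mul _, fun s _ => Commute.one_left s⟩
  mul_mem' := by
    rintro x y ⟨hx, hx2, hxc⟩ ⟨hy, hy2, hyc⟩
    refine ⟨mul_mem hx hy, ?_, fun s hs => (hxc s hs).mul_left (hyc s hs)⟩
    rw [show x * y * (x * y) = x * (y * x) * y by group, ← (hxc y hy).eq,
      show x * (x * y) * y = (x * x) * (y * y) by group, hx2, hy2, one_mul]
  inv_mem' := by
    rintro x ⟨hx, hx2, hxc⟩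
    refine ⟨inv_mem hx, ?_, fun s hs => (hxc s hs).inv_left⟩
    rw [← mul_inv_rev, hx2, inv_one]

theorem mem_omCentre {T : Subgroup G} {x : G} :
    x ∈ omCentre T ↔ x ∈ T ∧ x * x = 1 ∧ ∀ s ∈ T, Commute x s := Iff.rfl

theorem omCentre_le (T : Subgroup G) : omCentre T ≤ T := fun _ hx => hx.1

theorem normalizer_le_omCentre [Finite G] (T : Subgroup G) :
    Subgroup.normalizer (T : Set G) ≤ Subgroup.normalizer (omCentre T : Set G) := by
  have key : ∀ g ∈ Subgroup.normalizer (T : Set G), ∀ x ∈ omCentre T, g * x * g⁻¹ ∈ omCentre T := by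
    intro g hg x hx
    refine ⟨(Subgroup.mem_normalizer_iff.1 hg x).1 hx.1, ?_, fun s hs => ?_⟩
    · rw [show g * x * g⁻¹ * (g * x * g⁻¹) = g * (x * x) * g⁻¹ by group, hx.2.1]; group
    · have hs' : g⁻¹ * s * g ∈ T := by
        have := (Subgroup.mem_normalizer_iff.1 (inv_mem hg) s).1 hs
        rwa [inv_inv] at this
      have := (hx.2.2 _ hs').map (MulAut.conj g).toMonoidHom
      simpa [mul_assoc] using this
  intro g hg
  refine Subgroup.mem_normalizer_iff.2 fun x => ⟨key g hg x, fun hx => ?_⟩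
  have := key g⁻¹ (inv_mem hg) _ hx
  rwa [show g⁻¹ * (g * x * g⁻¹) * g⁻¹⁻¹ = x by group] at this

variable [Finite G]

theorem omCentre_ne_bot {T : Subgroup G} (hT : IsPGroup 2 T) (hT1 : T ≠ ⊥) : omCentre T ≠ ⊥ := by
  haveI : Fact (Nat.Prime 2) := ⟨Nat.prime_two⟩
  haveI : Nontrivial T := (Subgroup.nontrivial_iff_ne_bot T).2 hT1
  haveI := hT.center_nontrivial
  obtain ⟨k, hk0, hk⟩ := (hT.to_subgroup (Subgroup.center T)).nontrivial_iff_card.1 inferInstance
  obtain ⟨z, hz⟩ := exists_prime_orderOf_dvd_card' (G := Subgroup.center T) 2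
    (by rw [hk]; exact dvd_pow_self _ (Nat.pos_iff_ne_zero.1 hk0))
  intro e
  have hmem : ((z : T) : G) ∈ omCentre T := by
    refine ⟨(z : T).2, ?_, fun s hs => ?_⟩
    · have := pow_orderOf_eq_one z
      rw [hz, pow_two] at this
      exact congrArg (fun w : Subgroup.center T => ((w : T) : G)) this
    · exact (congrArg Subtype.val (Subgroup.mem_center_iff.1 z.2 ⟨s, hs⟩)).symm
  rw [e, Subgroup.mem_bot] at hmem
  have : z = 1 := Subtype.ext (Subtype.ext hmem)
  rw [this, orderOf_one] at hz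
  omega

namespace BStar

omit [Finite G] in
/-- The normaliser of a Sylow 2-subgroup induces an odd group on a central subgroup of it. -/
theorem odd_autImage {H T U : Subgroup G} (hTH : T ≤ H) (hodd : Odd (T.relIndex H))
    (hcent : ∀ x ∈ U, ∀ s ∈ T, Commute x s)
    (hnorm : H ⊓ Subgroup.normalizer (T : Set G) ≤ Subgroup.normalizer (U : Set G)) :
    Odd (Nat.card (autImage (H ⊓ Subgroup.normalizer (T : Set G)) U)) := by
  set N := H ⊓ Subgroup.normalizer (T : Set G) with hN
  have hTN : T ≤ N := le_inf hTH Subgroup.le_normalizer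
  have hrel : Odd (T.relIndex N) :=
    Odd.of_dvd_nat hodd ⟨_, (Subgroup.relIndex_mul_relIndex T N H hTN inf_le_left).symm⟩
  have hker : T.subgroupOf (Subgroup.normalizer (U : Set G)) ≤ U.normalizerMonoidHom.ker := by
    intro s hs
    rw [Subgroup.normalizerMonoidHom_ker, Subgroup.mem_subgroupOf, Subgroup.mem_centralizer_iff]
    exact fun x hx => (hcent x hx _ hs).eq
  refine hrel.of_dvd_nat ?_
  rw [← Subgroup.relIndex_subgroupOf (H := T) hnorm, autImage,
    ← Subgroup.relIndex_ker (f := U.normalizerMonoidHom)]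
  exact Subgroup.relIndex_dvd_of_le_left _ hker

/-- Burnside: central elements of a Sylow 2-subgroup fused in `H` are fused in its normaliser. -/
theorem exists_normalizer_conj {H T : Subgroup G} (hT : IsPGroup 2 T) (hTH : T ≤ H)
    (hodd : Odd (T.relIndex H)) {x y : G} (hx : x ∈ T) (hy : y ∈ T)
    (hxc : ∀ s ∈ T, Commute x s) (hyc : ∀ s ∈ T, Commute y s)
    (hfus : ∃ g ∈ H, g * x * g⁻¹ = y) :
    ∃ n ∈ H ⊓ Subgroup.normalizer (T : Set G), n * x * n⁻¹ = y := by
  haveI : Fact (Nat.Prime 2) := ⟨Nat.prime_two⟩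
  obtain ⟨h, hh, hhx⟩ := hfus
  obtain ⟨S, hS⟩ : ∃ S : Sylow 2 H, (S : Subgroup H) = T.subgroupOf H := by
    refine ⟨(hT.of_equiv (Subgroup.subgroupOfEquivOfLe hTH).symm).toSylow ?_, rfl⟩
    rw [show (T.subgroupOf H).index = T.relIndex H from rfl]
    exact fun h => (Nat.not_even_iff_odd.2 hodd) (even_iff_two_dvd.2 h)
  have hmem : ∀ z : G, (∀ s ∈ T, Commute z s) → ∀ hz : z ∈ H,
      (⟨z, hz⟩ : H) ∈ Subgroup.centralizer ((S : Subgroup H) : Set H) := fun z hzc hz =>
    Subgroup.mem_centralizer_iff.2 fun s hs => Subtype.ext (by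
      have hs' : (s : H) ∈ T.subgroupOf H := hS ▸ hs
      exact ((hzc _ hs').eq).symm)
  obtain ⟨n, hn, hne⟩ := S.conj_eq_normalizer_conj_of_mem_centralizer ⟨x, hTH hx⟩ ⟨h, hh⟩⁻¹
    (hmem _ hxc _) (by
      rw [show (⟨h, hh⟩⁻¹ : H)⁻¹ * ⟨x, hTH hx⟩ * ⟨h, hh⟩⁻¹ = ⟨y, hTH hy⟩ from
        Subtype.ext (by simpa using hhx)]
      exact hmem _ hyc _)
  refine ⟨((n⁻¹ : H) : G), ⟨(n⁻¹).2, ?_⟩, ?_⟩
  · refine (Subgroup.normalizer (T : Set G)).inv_mem (Subgroup.mem_normalizer_iff.2 fun z => ?_)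
    replace hn : n ∈ Subgroup.normalizer (((S : Subgroup H) : Subgroup H) : Set H) := hn
    rw [hS] at hn
    constructor
    · intro hz
      exact (Subgroup.mem_normalizer_iff.1 hn ⟨z, hTH hz⟩).1 hz
    · intro hz
      have hzH : z ∈ H := by
        have := H.mul_mem (H.mul_mem (H.inv_mem n.2) (hTH hz)) n.2
        simpa [mul_assoc] using this
      exact (Subgroup.mem_normalizer_iff.1 hn ⟨z, hzH⟩).2 hz
  · have := congrArg Subtype.val hne
    simp only [Subgroup.coe_mul, Subgroup.coe_inv, inv_inv] at this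
    simpa [hhx] using this.symm

/-- Adding an odd normalising subgroup keeps a Sylow 2-subgroup. -/
theorem odd_relIndex_sup {T K O : Subgroup G} (hTK : T ≤ K) (hodd : Odd (T.relIndex K))
    (hO : Odd (Nat.card O)) (hn : O ≤ Subgroup.normalizer (K : Set G)) :
    Odd (T.relIndex (K ⊔ O)) := by
  rw [← Subgroup.relIndex_mul_relIndex T K (K ⊔ O) hTK le_sup_left, Nat.odd_mul]
  refine ⟨hodd, hO.of_dvd_nat ?_⟩
  have h1 := Components.Signalizer.card_sup_dvd_mul hn
  rw [← Subgroup.card_mul_index (K.subgroupOf (K ⊔ O)),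
    Nat.card_congr (Subgroup.subgroupOfEquivOfLe (le_sup_left : K ≤ K ⊔ O)).toEquiv] at h1
  exact Nat.dvd_of_mul_dvd_mul_left Nat.card_pos h1

omit [Finite G] in
theorem eq_one_of_odd_two {A : Type*} [Monoid A] {x : A} {n : ℕ} (h2 : x ^ 2 ^ n = 1)
    (hodd : Odd (orderOf x)) : x = 1 := by
  rw [← orderOf_eq_one_iff]
  exact Nat.eq_one_of_dvd_coprimes ((Nat.coprime_two_left.2 hodd).pow_left n).symm dvd_rfl
    (orderOf_dvd_of_pow_eq_one h2)

end BStar

open BStar

variable {D : Set G} {a : Ω} {K T : Subgroup G}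

/-- A Sylow 2-subgroup of a point group is not trivial, so neither is `Z`. -/
theorem PointGroup.omCentre_ne_bot (hK : PointGroup D a K) (h : ClosedSetting D Ω)
    (hT : IsPGroup 2 T) (hodd : Odd (T.relIndex K)) : omCentre T ≠ ⊥ := by
  refine OnePointFront.omCentre_ne_bot hT fun e => ?_
  obtain ⟨d, hd, -⟩ := h.covers a ⊥ IsPGroup.of_bot bot_le
  rw [e, Subgroup.relIndex_bot_left] at hodd
  have h2 := Subgroup.orderOf_dvd_natCard K (hK.dat_le d hd)
  rw [h.orderOf_eq d hd.1] at h2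
  exact Nat.not_even_iff_odd.2 hodd (even_iff_two_dvd.2 h2)

omit [Finite G] in
/-- The nontrivial elements of `Z` are members at the point. -/
theorem PointGroup.mem_dat (hK : PointGroup D a K) (hTK : T ≤ K) {z : G} (hz : z ∈ omCentre T)
    (hz1 : z ≠ 1) : z ∈ dat D a :=
  hK.invol_mem z (hTK hz.1) (orderOf_eq_prime (by rw [pow_two, hz.2.1]) hz1)

theorem PointGroup.swapCore_le_normalizer (hK : PointGroup D a K) (b : Ω) :
    swapCore G a b ≤ Subgroup.normalizer (K : Set G) := by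
  intro g hg
  have hga := (TIEndgame.swapCore_le a b hg).1
  refine Subgroup.mem_normalizer_iff.2 fun k => ⟨hK.conj g hga k, fun hk => ?_⟩
  have := hK.conj g⁻¹ (inv_mem hga) _ hk
  rwa [show g⁻¹ * (g * k * g⁻¹) * g⁻¹⁻¹ = k by group] at this

/-- B*: the normaliser of `T` in `K · swapCore a b` is transitive on `Z`. -/
theorem PointGroup.exists_conj_omCentre (hK : PointGroup D a K) (h : ClosedSetting D Ω)
    (hT : IsPGroup 2 T) (hTK : T ≤ K) (hodd : Odd (T.relIndex K)) {b : Ω} (hab : a ≠ b) {x y : G}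
    (hx : x ∈ omCentre T) (hy : y ∈ omCentre T) (hx1 : x ≠ 1) (hy1 : y ≠ 1) :
    ∃ n ∈ (K ⊔ swapCore G a b) ⊓ Subgroup.normalizer (T : Set G), n * x * n⁻¹ = y := by
  obtain ⟨e, he, -⟩ := h.covers b ⊥ IsPGroup.of_bot bot_le
  obtain ⟨g, hg, hgx⟩ := h.toOnePoint.exists_conj_swapCore hab (hK.mem_dat hTK hx hx1)
    (hK.mem_dat hTK hy hy1) ⟨e, he⟩
  exact exists_normalizer_conj hT (hTK.trans le_sup_left)
    (odd_relIndex_sup hTK hodd (odd_card_swapCore a b) (hK.swapCore_le_normalizer b)) hx.1 hy.1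
    hx.2.2 hy.2.2 ⟨g, le_sup_right (a := K) hg, hgx⟩

/-- B*: the group induced on `Z` by the normaliser of `T` in `K · swapCore a b` is odd and
transitive. -/
theorem PointGroup.odd_transitive (hK : PointGroup D a K) (h : ClosedSetting D Ω)
    (hT : IsPGroup 2 T) (hTK : T ≤ K) (hodd : Odd (T.relIndex K)) {b : Ω} (hab : a ≠ b) :
    Odd (Nat.card (autImage ((K ⊔ swapCore G a b) ⊓ Subgroup.normalizer (T : Set G))
      (omCentre T))) ∧
    ∀ v w : omCentre T, v ≠ 1 → w ≠ 1 →
      ∃ d ∈ autImage ((K ⊔ swapCore G a b) ⊓ Subgroup.normalizer (T : Set G)) (omCentre T),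
        d v = w := by
  refine ⟨BStar.odd_autImage (hTK.trans le_sup_left)
    (odd_relIndex_sup hTK hodd (odd_card_swapCore a b) (hK.swapCore_le_normalizer b))
    (fun x hx s hs => hx.2.2 s hs) (inf_le_right.trans (normalizer_le_omCentre T)),
    fun v w hv hw => ?_⟩
  obtain ⟨n, hn, hnv⟩ := hK.exists_conj_omCentre h hT hTK hodd hab v.2 w.2
    (fun e => hv (Subtype.ext e)) (fun e => hw (Subtype.ext e))
  refine ⟨(omCentre T).normalizerMonoidHom ⟨n, normalizer_le_omCentre T hn.2⟩,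
    Subgroup.mem_map_of_mem _ hn, Subtype.ext ?_⟩
  rw [Subgroup.normalizerMonoidHom_apply_apply_coe]
  exact hnv

/-- B*: 2-groups fixing two points and normalising `T` induce cyclic groups on `Z`. -/
theorem PointGroup.isCyclic_autImage (hK : PointGroup D a K) (h : ClosedSetting D Ω)
    (hT : IsPGroup 2 T) (hTK : T ≤ K) (hodd : Odd (T.relIndex K)) {b : Ω} (hab : a ≠ b)
    {P : Subgroup G} (hP : IsPGroup 2 P) (hPab : P ≤ stabilizer G a ⊓ stabilizer G b)
    (hPT : P ≤ Subgroup.normalizer (T : Set G)) : IsCyclic (autImage P (omCentre T)) := by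
  refine TIEndgame.isCyclic_autImage (H := K ⊔ swapCore G a b) hT (hTK.trans le_sup_left)
    (odd_relIndex_sup hTK hodd (odd_card_swapCore a b) (hK.swapCore_le_normalizer b))
    (fun x hx => hx.2.1) (hK.omCentre_ne_bot h hT hodd) (omCentre_le T)
    (fun x hx s hs => hx.2.2 s hs) (inf_le_right.trans (normalizer_le_omCentre T)) ?_ hP
    (hPT.trans (normalizer_le_omCentre T)) ?_
  · intro x hx y hy hx1 hy1
    obtain ⟨n, hn, hnx⟩ := hK.exists_conj_omCentre h hT hTK hodd hab hx hy hx1 hy1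
    exact ⟨n, hn.1, hnx⟩
  · have key : ∀ p ∈ P, ∀ n ∈ (K ⊔ swapCore G a b) ⊓ Subgroup.normalizer (T : Set G),
        p * n * p⁻¹ ∈ (K ⊔ swapCore G a b) ⊓ Subgroup.normalizer (T : Set G) := by
      intro p hp n hn
      refine ⟨?_, mul_mem (mul_mem (hPT hp) hn.2) (Subgroup.inv_mem _ (hPT hp))⟩
      have hle : K ⊔ swapCore G a b ≤
          (K ⊔ swapCore G a b).comap (MulAut.conj p).toMonoidHom :=
        sup_le (fun k hk => le_sup_left (b := swapCore G a b) (hK.conj p (hPab hp).1 k hk))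
          (fun k hk => le_sup_right (a := K)
            (conj_mem_swapCore (Or.inl ⟨(hPab hp).1, (hPab hp).2⟩) hk))
      exact hle hn.1
    intro p hp
    refine Subgroup.mem_normalizer_iff.2 fun n => ⟨key p hp n, fun hn => ?_⟩
    have := key p⁻¹ (inv_mem hp) _ hn
    rwa [show p⁻¹ * (p * n * p⁻¹) * p⁻¹⁻¹ = n by group] at this

/-- Transfer datum: if a Sylow 2-subgroup of the normaliser of `T` in the stabiliser induces a
cyclic group on `Z`, a homomorphism of the stabiliser onto a cyclic group kills `K` and is trivial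
on a 2-element normalising `T` exactly if that element centralises `Z`. -/
theorem PointGroup.exists_hom (hK : PointGroup D a K) (hT : IsPGroup 2 T) (hTK : T ≤ K)
    (hodd : Odd (T.relIndex K)) {P : Subgroup G} (hP : IsPGroup 2 P)
    (hPN : P ≤ stabilizer G a ⊓ Subgroup.normalizer (T : Set G))
    (hPodd : Odd (P.relIndex (stabilizer G a ⊓ Subgroup.normalizer (T : Set G))))
    (hcyc : IsCyclic (autImage P (omCentre T))) :
    ∃ (A : Type u) (_ : CommGroup A) (_ : Finite A) (φ : ↥(stabilizer G a) →* A), IsCyclic A ∧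
      (∀ k : ↥(stabilizer G a), (k : G) ∈ K → φ k = 1) ∧
      ∀ x : ↥(stabilizer G a), (x : G) ∈ Subgroup.normalizer (T : Set G) →
        (∃ n : ℕ, (x : G) ^ 2 ^ n = 1) →
        (φ x = 1 ↔ ∀ z ∈ omCentre T, Commute (x : G) z) := by
  classical
  haveI : Fact (Nat.Prime 2) := ⟨Nat.prime_two⟩
  set Z := omCentre T with hZ
  set M := stabilizer G a with hM
  set M' := M ⊓ Subgroup.normalizer (T : Set G) with hM'
  have hM'Z : M' ≤ Subgroup.normalizer (Z : Set G) := inf_le_right.trans (normalizer_le_omCentre T)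
  -- the action on `Z` and its image
  let f : ↥M' →* MulAut Z := Z.normalizerMonoidHom.comp (Subgroup.inclusion hM'Z)
  let f₀ : ↥M' →* ↥f.range := f.rangeRestrict
  have hf₀ : Function.Surjective f₀ := f.rangeRestrict_surjective
  let Pm : Sylow 2 ↥M' := (hP.of_equiv (Subgroup.subgroupOfEquivOfLe hPN).symm).toSylow
    (fun hd => Nat.not_even_iff_odd.2 hPodd (even_iff_two_dvd.2 hd))
  let Pb : Sylow 2 ↥f.range := Pm.mapSurjective hf₀
  have hPb : IsCyclic ↥(Pb : Subgroup ↥f.range) := by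
    have hle : (Pb : Subgroup ↥f.range).map f.range.subtype ≤ autImage P Z := by
      rintro _ ⟨y, hy, rfl⟩
      obtain ⟨p, hp, rfl⟩ := (Sylow.coe_mapSurjective hf₀ Pm).le hy
      exact ⟨Subgroup.inclusion hM'Z p, hp, rfl⟩
    haveI := hcyc
    haveI : IsCyclic ↥((Pb : Subgroup ↥f.range).map f.range.subtype) :=
      isCyclic_of_injective _ (Subgroup.inclusion_injective hle)
    exact isCyclic_of_injective
      (Subgroup.equivMapOfInjective (Pb : Subgroup ↥f.range) _ f.range.subtype_injective).toMonoidHom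
      (Subgroup.equivMapOfInjective (Pb : Subgroup ↥f.range) _ f.range.subtype_injective).injective
  have hPbN : Subgroup.normalizer ((Pb : Subgroup ↥f.range) : Set ↥f.range) ≤
      Subgroup.centralizer ((Pb : Subgroup ↥f.range) : Set ↥f.range) := by
    by_cases h2 : 2 ∣ Nat.card ↥f.range
    · exact hPb.normalizer_le_centralizer ((Nat.minFac_eq_two_iff _).mpr h2)
    · have hbot : (Pb : Subgroup ↥f.range) = ⊥ := by
        obtain ⟨k, hk⟩ := Pb.2.exists_card_eq
        have := Subgroup.card_subgroup_dvd_card (Pb : Subgroup ↥f.range)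
        rcases Nat.eq_zero_or_pos k with rfl | hk0
        · exact Subgroup.card_eq_one.1 (by rw [hk, pow_zero])
        · exact absurd ((dvd_pow_self 2 hk0.ne').trans (hk ▸ this)) h2
      intro g _
      rw [Subgroup.mem_centralizer_iff, hbot]
      intro s hs
      rw [Subgroup.mem_bot.1 hs, one_mul, mul_one]
  let τ := MonoidHom.transferSylow Pb hPbN
  let ψ := τ.comp f₀
  letI : CommGroup ↥(Pb : Subgroup ↥f.range) := IsCyclic.commGroup
  have hA2 : ∀ y : ↥(Pb : Subgroup ↥f.range), ∃ n, y ^ 2 ^ n = 1 := Pb.2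
  -- the elements of `K` are killed
  have hKker : ∀ m : ↥M', (m : G) ∈ K → ψ m = 1 := by
    intro m hm
    obtain ⟨n, hn⟩ := hA2 (ψ m)
    refine eq_one_of_odd_two hn ?_
    have h1 : orderOf (ψ m) ∣ orderOf (f m) :=
      (orderOf_map_dvd τ (f₀ m)).trans (by rw [← Subgroup.orderOf_coe]; exact dvd_rfl)
    have hodd' := BStar.odd_autImage hTK hodd (fun x (hx : x ∈ Z) s hs => hx.2.2 s hs)
      (inf_le_right.trans (normalizer_le_omCentre T))
    refine hodd'.of_dvd_nat (h1.trans ?_)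
    exact Subgroup.orderOf_dvd_natCard _ ⟨Subgroup.inclusion hM'Z m, ⟨hm, m.2.2⟩, rfl⟩
  -- Frattini: the normaliser of `T` covers the stabiliser modulo `K`
  haveI : (K.subgroupOf M).Normal := ⟨fun k hk g => hK.conj g g.2 k hk⟩
  let π : ↥M' →* ↥M ⧸ K.subgroupOf M :=
    (QuotientGroup.mk' (K.subgroupOf M)).comp (Subgroup.inclusion inf_le_left)
  obtain ⟨TS, hTS⟩ : ∃ S : Sylow 2 K, (S : Subgroup K) = T.subgroupOf K := by
    refine ⟨(hT.of_equiv (Subgroup.subgroupOfEquivOfLe hTK).symm).toSylow ?_, rfl⟩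
    exact fun hd => Nat.not_even_iff_odd.2 hodd (even_iff_two_dvd.2 hd)
  have hπ : Function.Surjective π := by
    intro q
    obtain ⟨g, rfl⟩ := QuotientGroup.mk'_surjective _ q
    set T' := T.map (MulAut.conj (g : G)).toMonoidHom with hT'
    have hT'K : T' ≤ K := by
      rintro _ ⟨t, ht, rfl⟩
      exact hK.conj g g.2 t (hTK ht)
    obtain ⟨k, hk⟩ := Basic.exists_conj_le TS
      ((hT.map _).of_equiv (Subgroup.subgroupOfEquivOfLe hT'K).symm)
    have hkg : (k : G) * g ∈ Subgroup.normalizer (T : Set G) := by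
      have key : ∀ t ∈ T, ((k : G) * g) * t * ((k : G) * g)⁻¹ ∈ T := by
        intro t ht
        have hmem : (g : G) * t * (g : G)⁻¹ ∈ T' := ⟨t, ht, rfl⟩
        have h3 : k * (⟨_, hT'K hmem⟩ : K) * k⁻¹ ∈ (TS : Subgroup K) := hk ⟨_, hT'K hmem⟩ hmem
        rw [hTS] at h3
        have h4 : ((k * ⟨_, hT'K hmem⟩ * k⁻¹ : K) : G) ∈ T := h3
        simpa [mul_assoc] using h4
      refine Subgroup.mem_normalizer_iff_map_conj_eq.2 (Subgroup.eq_of_le_of_card_ge
        (by rintro _ ⟨t, ht, rfl⟩; exact key t ht) ?_)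
      rw [Subgroup.card_map_of_injective (MulAut.conj ((k : G) * g)).injective]
    refine ⟨⟨_, ⟨mul_mem (hK.le k.2) g.2, hkg⟩⟩, (QuotientGroup.eq).2 ?_⟩
    show ((k : G) * g)⁻¹ * (g : G) ∈ K
    have := hK.conj (g : G)⁻¹ (inv_mem g.2) _ (inv_mem k.2)
    simpa [mul_assoc] using this
  have hker : π.ker ≤ ψ.ker := fun m hm =>
    hKker m (Subgroup.mem_subgroupOf.1
      ((QuotientGroup.eq_one_iff (Subgroup.inclusion (inf_le_left : M' ≤ M) m)).1 hm))
  let φ : ↥M →* ↥(Pb : Subgroup ↥f.range) :=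
    (π.liftOfRightInverse _ (Function.rightInverse_surjInv hπ) ⟨ψ, hker⟩).comp
      (QuotientGroup.mk' (K.subgroupOf M))
  have hφ : ∀ m : ↥M', φ (Subgroup.inclusion inf_le_left m) = ψ m := fun m =>
    π.liftOfRightInverse_comp_apply _ (Function.rightInverse_surjInv hπ) ⟨ψ, hker⟩ m
  refine ⟨_, inferInstance, inferInstance, φ, hPb, fun k hk => ?_, ?_⟩
  · have hk1 : QuotientGroup.mk' (K.subgroupOf M) k = 1 := (QuotientGroup.eq_one_iff k).2 hk
    simp only [φ, MonoidHom.comp_apply, hk1, map_one]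
  rintro ⟨x, hxM⟩ hxT ⟨n, hn⟩
  obtain ⟨m, rfl⟩ : ∃ m : ↥M', (m : G) = x := ⟨⟨x, hxM, hxT⟩, rfl⟩
  show φ (Subgroup.inclusion inf_le_left m) = 1 ↔ ∀ z ∈ Z, Commute (m : G) z
  rw [hφ]
  have hfx : f m = 1 ↔ ∀ z ∈ Z, Commute (m : G) z := by
    show Subgroup.inclusion hM'Z m ∈ Z.normalizerMonoidHom.ker ↔ _
    rw [Subgroup.normalizerMonoidHom_ker, Subgroup.mem_subgroupOf, Subgroup.mem_centralizer_iff]
    exact ⟨fun h z hz => (h z hz).symm, fun h z hz => (h z hz).eq.symm⟩
  rw [← hfx]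
  constructor
  · intro hψ
    have hpow : f₀ m ^ 2 ^ n = 1 := by
      rw [← map_pow, show m ^ 2 ^ n = 1 from Subtype.ext (by simpa using hn), map_one]
    have hz : IsPGroup 2 ↥(Subgroup.zpowers (f₀ m)) := by
      rintro ⟨_, i, rfl⟩
      refine ⟨n, Subtype.ext ?_⟩
      show (f₀ m ^ i) ^ 2 ^ n = 1
      rw [← zpow_natCast (f₀ m ^ i), ← zpow_mul, mul_comm, zpow_mul, zpow_natCast, hpow, one_zpow]
    have := MonoidHom.ker_transferSylow_disjoint Pb hPbN _ hz
    have h1 : f₀ m ∈ τ.ker ⊓ Subgroup.zpowers (f₀ m) := ⟨hψ, Subgroup.mem_zpowers _⟩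
    rw [this.eq_bot, Subgroup.mem_bot] at h1
    exact congrArg Subtype.val h1
  · intro hfm
    rw [show ψ m = τ (f₀ m) from rfl, show f₀ m = 1 from Subtype.ext hfm, map_one]

/-- If in addition some 2-element `u` normalising `T` moves `Z`, a homomorphism of the stabiliser
kills the members at the point and `K` but not `u`. -/
theorem PointGroup.exists_hom_moving (hK : PointGroup D a K) (hT : IsPGroup 2 T) (hTK : T ≤ K)
    (hodd : Odd (T.relIndex K)) {P : Subgroup G} (hP : IsPGroup 2 P)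
    (hPN : P ≤ stabilizer G a ⊓ Subgroup.normalizer (T : Set G))
    (hPodd : Odd (P.relIndex (stabilizer G a ⊓ Subgroup.normalizer (T : Set G))))
    (hcyc : IsCyclic (autImage P (omCentre T))) {u : G} (hu : u ∈ P)
    (hmove : ∃ z ∈ omCentre T, ¬ Commute u z) :
    ∃ (A : Type u) (_ : CommGroup A) (_ : Finite A) (φ : ↥(stabilizer G a) →* A), IsCyclic A ∧
      (∀ k : ↥(stabilizer G a), (k : G) ∈ K → φ k = 1) ∧
      (∀ d : ↥(stabilizer G a), (d : G) ∈ D → φ d = 1) ∧
      φ ⟨u, (hPN hu).1⟩ ≠ 1 := by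
  obtain ⟨A, i₁, i₂, φ, hA, hk, hiff⟩ := hK.exists_hom hT hTK hodd hP hPN hPodd hcyc
  refine ⟨A, i₁, i₂, φ, hA, hk, fun d hd => hk d (hK.dat_le d ⟨hd, d.2⟩), fun e => ?_⟩
  obtain ⟨z, hz, hne⟩ := hmove
  obtain ⟨n, hn⟩ := hP ⟨u, hu⟩
  exact hne ((hiff _ (hPN hu).2 ⟨n, congrArg Subtype.val hn⟩).1 e z hz)

end CfsgLib.LocalEven.OnePointFront
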