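import Cfsg.Agent.Lib.LocalEven.OnePointFront.Nonfull.AffinePairGroup

/-!
# Translations in transitive affine groups with a cyclic transitive complement

`Y` acts on an elementary abelian group `V` of order `2 ^ r` with a cocycle `c` onto `V`; the
stabiliser of the origin has an image of odd order normalising the image of `J`, a cyclic group
fixing the origin, transitive on the non-zero vectors and normalising `Y`.  Then `Y` contains a
non-trivial translation, unless `r = 3`.
-/

set_option autoImplicit false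
set_option linter.style.haveILetI false

namespace CfsgLib.LocalEven.OnePointFront.Nonfull

open Subgroup CfsgLib.LocalEven.TIEndgame
open scoped Pointwise

universe u v

section Add

variable {X : Type u} {V : Type v} [Group X] [Finite X] [AddCommGroup V] [Finite V]
  [DistribMulAction X V]

/-- The faithful reduction: either a translation or degree three. -/
theorem translation_or_three (c : X → V) (hc : ∀ g k : X, c (g * k) = c g + g • c k)
    (hV2 : ∀ v : V, v + v = 0) {r : ℕ} (hr : 2 ≤ r) (hcard : Nat.card V = 2 ^ r)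
    (hon : ∀ v : V, ∃ g, c g = v) (J : Subgroup X) [IsCyclic J] (hJ : ∀ j ∈ J, c j = 0)
    (htrans : ∀ v w : V, v ≠ 0 → w ≠ 0 → ∃ j ∈ J, j • v = w)
    (hnorm : ∀ g : X, c g = 0 → ∀ j ∈ J, ∃ k ∈ J, ∀ v : V, (g * j * g⁻¹) • v = k • v)
    (hodd : ∀ g : X, c g = 0 → ∃ n, Odd n ∧ ∀ v : V, g ^ n • v = v) :
    (∃ g : X, (∀ v : V, g • v = v) ∧ c g ≠ 0) ∨ r = 3 := by
  classical
  refine or_iff_not_imp_left.2 fun hno => ?_
  push Not at hno
  set φ := MulAction.toPermHom X V with hφ
  set P := φ.range with hP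
  letI : DistribMulAction P V :=
    { (inferInstance : MulAction P V) with
      smul_zero := by
        rintro ⟨_, g, rfl⟩
        exact smul_zero g
      smul_add := by
        rintro ⟨_, g, rfl⟩ v w
        exact smul_add g v w }
  haveI : FaithfulSMul P V := ⟨fun {a b} e => Subtype.ext (Equiv.ext fun v => e v)⟩
  set π := φ.rangeRestrict with hπ
  have hπs : Function.Surjective π := φ.rangeRestrict_surjective
  have hact : ∀ (g : X) (v : V), π g • v = g • v := fun g v => rfl
  -- the cocycle factors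
  have hwd : ∀ g k : X, π g = π k → c g = c k := by
    intro g k e
    have h1 : ∀ v : V, (g⁻¹ * k) • v = v := fun v => by
      rw [← hact, map_mul, ← e, ← map_mul, inv_mul_cancel, hact, one_smul]
    have h2 := hno _ h1
    calc c g = c g + g • c (g⁻¹ * k) := by rw [h2, smul_zero, add_zero]
      _ = c k := by rw [← hc, mul_inv_cancel_left]
  choose lift hlift using hπs
  have hs : AffineSetting (fun a => c (lift a)) (J.map π) r :=
    { cocycle := fun a b => by
        rw [hwd (lift (a * b)) (lift a * lift b) (by rw [map_mul, hlift, hlift, hlift]), hc,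
          ← hact, hlift]
      two := hV2
      card := hcard
      two_le := hr
      onto := fun v => by
        obtain ⟨g, rfl⟩ := hon v
        exact ⟨π g, hwd _ _ (hlift _)⟩
      zero := by
        rintro _ ⟨j, hj, rfl⟩
        rw [hwd _ j (hlift _), hJ j hj]
      trans := fun v w hv hw => by
        obtain ⟨j, hj, e⟩ := htrans v w hv hw
        exact ⟨π j, mem_map_of_mem π hj, e⟩
      norm := fun a ha => by
        rintro _ ⟨j, hj, rfl⟩
        obtain ⟨k, hk, e⟩ := hnorm (lift a) ha j hj
        refine ⟨k, hk, ?_⟩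
        rw [← hlift a, ← map_inv, ← map_mul, ← map_mul]
        exact (FaithfulSMul.eq_of_smul_eq_smul (α := V) fun v => (e v).symm)
      odd := fun a ha => by
        obtain ⟨n, hn, e⟩ := hodd (lift a) ha
        refine hn.of_dvd_nat (orderOf_dvd_of_pow_eq_one ?_)
        rw [← hlift a, ← map_pow]
        exact FaithfulSMul.eq_of_smul_eq_smul (α := V) fun v => by rw [hact, e, one_smul]
      cyclic := isCyclic_of_surjective (π.subgroupMap J) (π.subgroupMap_surjective J) }
  exact hs.eq_three

/-- The statement for a subgroup `Y` normalised by `J`. -/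
theorem exists_translation (c : X → V) (hc : ∀ g k : X, c (g * k) = c g + g • c k)
    (hV2 : ∀ v : V, v + v = 0) {r : ℕ} (hr : 2 ≤ r) (hcard : Nat.card V = 2 ^ r)
    (Y J : Subgroup X) [IsCyclic J] (hJY : J ≤ Subgroup.normalizer (Y : Set X))
    (hon : ∀ v : V, ∃ g ∈ Y, c g = v) (hJ : ∀ j ∈ J, c j = 0)
    (htrans : ∀ v w : V, v ≠ 0 → w ≠ 0 → ∃ j ∈ J, j • v = w)
    (hnorm : ∀ g ∈ Y, c g = 0 → ∀ j ∈ J, ∃ k ∈ J, ∀ v : V, (g * j * g⁻¹) • v = k • v)
    (hodd : ∀ g ∈ Y, c g = 0 → ∃ n, Odd n ∧ ∀ v : V, g ^ n • v = v) :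
    (∃ g ∈ Y, (∀ v : V, g • v = v) ∧ c g ≠ 0) ∨ r = 3 := by
  classical
  letI := IsCyclic.commGroup (α := J)
  -- an element of `J` fixing a non-zero vector acts trivially
  have hfree : ∀ j ∈ J, ∀ v : V, v ≠ 0 → j • v = v → ∀ w : V, j • w = w := by
    intro j hj v hv e w
    by_cases hw : w = 0
    · rw [hw, smul_zero]
    obtain ⟨k, hk, rfl⟩ := htrans v w hv hw
    have hcomm : j * k = k * j := congrArg Subtype.val (mul_comm (⟨j, hj⟩ : J) ⟨k, hk⟩)
    rw [smul_smul, hcomm, mul_smul, e]
  set K := J ⊔ Y with hK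
  have hmem : ∀ g ∈ K, ∃ j ∈ J, ∃ y ∈ Y, g = j * y := by
    intro g hg
    have h1 : g ∈ ((J : Set X) * (Y : Set X)) := by
      rw [← Subgroup.coe_mul_of_left_le_normalizer_right J Y hJY]; exact hg
    obtain ⟨j, hj, y, hy, e⟩ := h1
    exact ⟨j, hj, y, hy, e.symm⟩
  have hKN : K ≤ Subgroup.normalizer (Y : Set X) := sup_le hJY Subgroup.le_normalizer
  have hJodd : ∀ j ∈ J, ∀ v : V, j ^ (2 ^ r - 1) • v = v := by
    intro j hj v
    by_cases hv : v = 0
    · rw [hv, smul_zero]
    -- the stabiliser of `v` in `J` has index `2 ^ r - 1`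
    have hidx : (MulAction.stabilizer J v).index = 2 ^ r - 1 := by
      rw [MulAction.index_stabilizer]
      have e : MulAction.orbit J v = {w : V | w ≠ 0} := by
        ext w
        constructor
        · rintro ⟨k, rfl⟩ e
          exact hv ((smul_eq_zero_iff_eq (k : X)).1 e)
        · intro hw
          obtain ⟨k, hk, e⟩ := htrans v w hv hw
          exact ⟨⟨k, hk⟩, e⟩
      rw [e, show {w : V | w ≠ 0} = ({0} : Set V)ᶜ from rfl, Set.ncard_compl,
        Set.ncard_singleton, hcard]
    have h1 : (⟨j, hj⟩ : J) ^ (2 ^ r - 1) ∈ MulAction.stabilizer J v := by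
      rw [← hidx]; exact Subgroup.pow_index_mem _ _
    exact h1
  haveI : IsCyclic (J.subgroupOf K) :=
    isCyclic_of_surjective (Subgroup.subgroupOfEquivOfLe (le_sup_left : J ≤ K)).symm.toMonoidHom
      (Subgroup.subgroupOfEquivOfLe (le_sup_left : J ≤ K)).symm.surjective
  rcases translation_or_three (X := K) (fun g => c (g : X)) (fun g k => hc g k) hV2 hr hcard
    (fun v => by
      obtain ⟨g, hg, e⟩ := hon v
      exact ⟨⟨g, Subgroup.mem_sup_right hg⟩, e⟩)
    (J.subgroupOf K) (fun j hj => hJ _ hj)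
    (fun v w hv hw => by
      obtain ⟨j, hj, e⟩ := htrans v w hv hw
      exact ⟨⟨j, Subgroup.mem_sup_left hj⟩, hj, e⟩)
    (fun g hg j hj => by
      obtain ⟨a, ha, y, hy, e⟩ := hmem g g.2
      have hy0 : c y = 0 := by
        have h1 : c (a * y) = 0 := e ▸ hg
        rwa [hc, hJ a ha, zero_add, smul_eq_zero_iff_eq] at h1
      obtain ⟨k, hk, hk'⟩ := hnorm y hy hy0 j hj
      refine ⟨⟨a * k * a⁻¹, Subgroup.mem_sup_left (mul_mem (mul_mem ha hk) (inv_mem ha))⟩,
        mul_mem (mul_mem ha hk) (inv_mem ha), fun v => ?_⟩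
      show ((g : X) * j * (g : X)⁻¹) • v = (a * k * a⁻¹) • v
      rw [e, show a * y * (j : X) * (a * y)⁻¹ = a * (y * j * y⁻¹) * a⁻¹ by group, mul_smul,
        mul_smul, hk', ← mul_smul, ← mul_smul])
    (fun g hg => by
      obtain ⟨a, ha, y, hy, e⟩ := hmem g g.2
      have hy0 : c y = 0 := by
        have h1 : c (a * y) = 0 := e ▸ hg
        rwa [hc, hJ a ha, zero_add, smul_eq_zero_iff_eq] at h1
      obtain ⟨n, hn, hy'⟩ := hodd y hy hy0
      -- `(a y) ^ m` acts as an element of `J` times `y ^ m`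
      have hpow : ∀ m : ℕ, ∃ b ∈ J, ∀ v : V, (a * y) ^ m • v = b • y ^ m • v := by
        intro m
        induction m with
        | zero => exact ⟨1, one_mem J, fun v => by simp⟩
        | succ m ih =>
          obtain ⟨b, hb, hb'⟩ := ih
          obtain ⟨k, hk, hk'⟩ := hnorm y hy hy0 b hb
          refine ⟨a * k, mul_mem ha hk, fun v => ?_⟩
          rw [pow_succ', mul_smul, hb', ← mul_smul (a * y) b,
            show a * y * b = a * (y * b * y⁻¹) * y by group, mul_smul, mul_smul, hk',
            pow_succ', mul_smul y, mul_smul a k]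
      obtain ⟨b, hb, hb'⟩ := hpow n
      refine ⟨n * (2 ^ r - 1), hn.mul (Nat.Even.sub_odd Nat.one_le_two_pow
        ((Nat.even_pow).2 ⟨even_two, by omega⟩) odd_one), fun v => ?_⟩
      have hbn : ∀ (i : ℕ) (w : V), ((a * y) ^ n) ^ i • w = b ^ i • w := by
        intro i
        induction i with
        | zero => intro w; simp
        | succ i ih => intro w; rw [pow_succ, mul_smul, ih, hb', hy', ← mul_smul, ← pow_succ]
      show ((g : X) ^ (n * (2 ^ r - 1))) • v = v
      rw [e, pow_mul, hbn, hJodd b hb])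
    with ⟨g, hgt, hg0⟩ | h3
  · refine Or.inl ?_
    obtain ⟨a, ha, y, hy, e⟩ := hmem g g.2
    have hcy : c y ≠ 0 := fun h0 => hg0 (by
      show c (g : X) = 0
      rw [e, hc, hJ a ha, h0, smul_zero, add_zero])
    by_cases hat : ∀ v : V, y • v = v
    · exact ⟨y, hy, hat, hcy⟩
    -- the commutator of the translation with `y`
    have hgt' : ∀ v : V, (g : X) • v = v := hgt
    have hginv : ∀ v : V, (g : X)⁻¹ • v = v := fun v => by
      rw [inv_smul_eq_iff, hgt']
    have hneg : ∀ v : V, -v = v := fun v => neg_eq_of_add_eq_zero_left (hV2 v)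
    refine ⟨(g : X) * y * (g : X)⁻¹ * y⁻¹,
      mul_mem ((mem_normalizer_iff.1 (hKN g.2) y).1 hy) (inv_mem hy), fun v => ?_, fun h0 => ?_⟩
    · rw [mul_smul, mul_smul, mul_smul, hginv, hgt', smul_inv_smul]
    · rw [hc, hc, hc, AffineTwo.map_inv c hc, AffineTwo.map_inv c hc, hneg, hneg] at h0
      simp only [mul_smul, hginv, hgt', smul_inv_smul] at h0
      replace h0 : c (g : X) + y • c (g : X) = 0 := by
        calc c (g : X) + y • c (g : X)
            = c (g : X) + y • c (g : X) + (c y + c y) := by rw [hV2 (c y), add_zero]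
          _ = c (g : X) + c y + y • c (g : X) + c y := by abel
          _ = 0 := h0
      have hy2 : y • c (g : X) = c (g : X) :=
        ((eq_neg_of_add_eq_zero_right h0).trans (hneg _))
      -- `y` acts as `a⁻¹`
      have hya : ∀ v : V, y • v = a⁻¹ • v := fun v => by
        have h1 := hgt' v
        rw [e, mul_smul] at h1
        rw [eq_inv_smul_iff, h1]
      refine hat fun v => ?_
      rw [hya]
      exact hfree a⁻¹ (inv_mem ha) _ hg0 (by rw [← hya]; exact hy2) v
  · exact Or.inr h3

end Add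

/-- The multiplicative form of `exists_translation`. -/
theorem exists_translation_mul {X : Type u} {V : Type v} [Group X] [Finite X] [CommGroup V]
    [Finite V] (ρ : X →* MulAut V) (τ : X → V) (hτ : ∀ g k : X, τ (g * k) = τ g * ρ g (τ k))
    (hV2 : ∀ v : V, v * v = 1) {r : ℕ} (hr : 2 ≤ r) (hcard : Nat.card V = 2 ^ r)
    (Y J : Subgroup X) [IsCyclic J] (hJY : J ≤ Subgroup.normalizer (Y : Set X))
    (hon : ∀ v : V, ∃ g ∈ Y, τ g = v) (hJ : ∀ j ∈ J, τ j = 1)
    (htrans : ∀ v w : V, v ≠ 1 → w ≠ 1 → ∃ j ∈ J, ρ j v = w)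
    (hnorm : ∀ g ∈ Y, τ g = 1 → ∀ j ∈ J, ∃ k ∈ J, ρ (g * j * g⁻¹) = ρ k)
    (hodd : ∀ g ∈ Y, τ g = 1 → Odd (orderOf (ρ g))) :
    (∃ g ∈ Y, ρ g = 1 ∧ τ g ≠ 1) ∨ r = 3 := by
  letI : DistribMulAction X (Additive V) :=
    { smul := fun g v => Additive.ofMul (ρ g (Additive.toMul v))
      one_smul := fun v => by
        show Additive.ofMul (ρ 1 (Additive.toMul v)) = v
        rw [map_one]; rfl
      mul_smul := fun g k v => by
        show Additive.ofMul (ρ (g * k) (Additive.toMul v)) = _
        rw [map_mul]; rfl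
      smul_zero := fun g => congrArg Additive.ofMul (map_one (ρ g))
      smul_add := fun g v w => congrArg Additive.ofMul (map_mul (ρ g) _ _) }
  rcases exists_translation (V := Additive V) (fun g => Additive.ofMul (τ g))
    (fun g k => congrArg Additive.ofMul (hτ g k))
    (fun v => congrArg Additive.ofMul (hV2 (Additive.toMul v))) hr hcard Y J hJY
    (fun v => by
      obtain ⟨g, hg, e⟩ := hon (Additive.toMul v)
      exact ⟨g, hg, congrArg Additive.ofMul e⟩)
    (fun j hj => congrArg Additive.ofMul (hJ j hj))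
    (fun v w hv hw => by
      obtain ⟨j, hj, e⟩ := htrans (Additive.toMul v) (Additive.toMul w)
        (fun h => hv (congrArg Additive.ofMul h)) (fun h => hw (congrArg Additive.ofMul h))
      exact ⟨j, hj, congrArg Additive.ofMul e⟩)
    (fun g hg hg0 j hj => by
      obtain ⟨k, hk, e⟩ := hnorm g hg (congrArg Additive.toMul hg0) j hj
      exact ⟨k, hk, fun v => congrArg Additive.ofMul (DFunLike.congr_fun e (Additive.toMul v))⟩)
    (fun g hg hg0 => ⟨orderOf (ρ g), hodd g hg (congrArg Additive.toMul hg0), fun v => by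
      have e : ρ (g ^ orderOf (ρ g)) = 1 := by rw [map_pow, pow_orderOf_eq_one]
      show Additive.ofMul (ρ (g ^ orderOf (ρ g)) (Additive.toMul v)) = v
      rw [e]; rfl⟩) with ⟨g, hg, hgt, hg0⟩ | h3
  · exact Or.inl ⟨g, hg, MulEquiv.ext fun v => congrArg Additive.toMul (hgt (Additive.ofMul v)),
      fun e => hg0 (congrArg Additive.ofMul e)⟩
  · exact Or.inr h3

end CfsgLib.LocalEven.OnePointFront.Nonfull
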