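import Cfsg.Agent.Lib.LocalEven.OnePointFront.Nonfull.AffineSetting

/-!
# The inverted element of an affine group

Baer-Suzuki gives an element of prime order fixing the origin and one non-zero vector `d`, inverted
by an involution exchanging the two.  Its order is the degree `r`, which is therefore an odd prime.
-/

set_option autoImplicit false
set_option linter.style.haveILetI false
set_option linter.unusedSectionVars false

namespace CfsgLib.LocalEven.OnePointFront.Nonfull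

open CfsgLib.LocalEven.TIEndgame

universe u v

/-- An element of order `r` fixing the origin and exactly one non-zero vector `d`, inverted by an
involution exchanging the origin and `d`. -/
structure AffinePair {X : Type u} {V : Type v} [Group X] [AddCommGroup V] [DistribMulAction X V]
    (c : X → V) (r : ℕ) (x y : X) (d : V) : Prop where
  prime : r.Prime
  odd_r : Odd r
  ord : orderOf x = r
  cx : c x = 0
  xd : x • d = d
  dne : d ≠ 0
  fixed : ∀ v : V, x • v = v → v = 0 ∨ v = d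
  inv : y * x * y⁻¹ = x⁻¹
  cy : c y = d
  yd : y • d = d
  ordy : orderOf y = 2

namespace AffineSetting

variable {X : Type u} {V : Type v} [Group X] [AddCommGroup V] [DistribMulAction X V]
  {c : X → V} {J : Subgroup X} {r : ℕ} (h : AffineSetting c J r)
variable [Finite X] [Finite V] [FaithfulSMul X V]

include h

theorem two_dvd_card : 2 ∣ Nat.card X := by
  rw [h.card_eq]
  exact Dvd.dvd.mul_left (dvd_pow_self 2 (by have := h.two_le; omega)) _

/-- An inverted element of prime order fixing the origin and a non-zero vector. -/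
theorem exists_inverted :
    ∃ (x y : X) (d : V) (ℓ : ℕ), ℓ.Prime ∧ Odd ℓ ∧ orderOf x = ℓ ∧ c x = 0 ∧ x • d = d ∧ d ≠ 0 ∧
      y * x * y⁻¹ = x⁻¹ ∧ c y ≠ 0 := by
  classical
  haveI : Fact (Nat.Prime 2) := ⟨Nat.prime_two⟩
  obtain ⟨z, hz2⟩ := exists_prime_orderOf_dvd_card' (G := X) 2 h.two_dvd_card
  have hzz : z * z = 1 := by rw [← pow_two, ← hz2, pow_orderOf_eq_one]
  have hz1 : z ≠ 1 := fun e => by rw [e, orderOf_one] at hz2; omega
  -- the fixed space of `z` is more than half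
  let f : V →+ V := AddMonoidHom.id V + DistribMulAction.toAddMonoidHom V z
  have hfa : ∀ v, f v = v + z • v := fun _ => rfl
  have hlarge : Nat.card V < Nat.card f.ker * Nat.card f.ker := by
    have h1 : Nat.card f.ker * Nat.card f.range = Nat.card V := by
      rw [← Nat.card_congr (QuotientAddGroup.quotientKerEquivRange f).toEquiv]
      exact f.ker.card_mul_index
    have h2 : f.range < f.ker := by
      refine lt_of_le_of_ne ?_ fun e => ?_
      · rintro _ ⟨v, rfl⟩
        rw [AddMonoidHom.mem_ker, hfa, hfa, smul_add, smul_smul, hzz, one_smul, add_comm (z • v),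
          h.two]
      · have hcz : c z ∈ f.ker := by
          rw [AddMonoidHom.mem_ker, hfa, h.smul_eq_self_of_involution hz2, h.two]
        obtain ⟨v, hv⟩ : c z ∈ f.range := e ▸ hcz
        refine h.no_fixed hz2 v ?_
        rw [← hv, hfa, add_assoc, h.two, add_zero]
    have h3 : Nat.card f.range < Nat.card f.ker := by
      refine lt_of_le_of_ne (AddSubgroup.card_le_of_le h2.le) fun e => h2.ne ?_
      exact AddSubgroup.eq_of_le_of_card_ge h2.le e.ge
    rw [← h1]
    exact Nat.mul_lt_mul_of_pos_left h3 Nat.card_pos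
  -- an inverted element of odd order
  obtain ⟨g₁, hg₁1, hg₁odd, hinv⟩ :=
    CfsgLib.Involution.BaerSuzuki.exists_inverted_odd z hz2 (by
      intro N hN hN2 hzN
      haveI := hN
      exact hz1 (h.normal_two_group_eq_bot hN2 z hzN))
  obtain ⟨d, hd1, hd2, hd0⟩ := AffineTwo.exists_mem_both f.ker
    (f.ker.map (DistribMulAction.toAddMonoidHom V g₁)) (by
      rwa [Nat.card_congr (AddSubgroup.equivMapOfInjective f.ker _
        (MulAction.injective (β := V) g₁)).toEquiv.symm])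
  obtain ⟨d', hd', hdd'⟩ := AddSubgroup.mem_map.1 hd2
  have hzfix : ∀ v, v ∈ f.ker → z • v = v := fun v hv => by
    rw [AddMonoidHom.mem_ker, hfa] at hv
    calc z • v = -v := eq_neg_of_add_eq_zero_right hv
      _ = v := h.neg_eq v
  have hg₁d : g₁ • d = d := by
    have h2 : (g₁ * g₁) • d = d := by
      have e : g₁ * g₁ = (g₁ * z * g₁⁻¹) * z := by
        have : z * g₁⁻¹ * z⁻¹ = g₁ := by
          rw [← inv_inj]; simpa [mul_assoc] using hinv
        rw [inv_eq_of_mul_eq_one_right hzz] at this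
        rw [mul_assoc (g₁ * z) g₁⁻¹ z, mul_assoc g₁ z, ← mul_assoc z g₁⁻¹ z, this]
      rw [e, mul_smul, hzfix d hd1, ← hdd']
      change (g₁ * z * g₁⁻¹) • g₁ • d' = g₁ • d'
      rw [smul_smul, inv_mul_cancel_right, mul_smul, hzfix d' hd']
    obtain ⟨i, hi⟩ := hg₁odd
    have h1 : g₁ = (g₁ * g₁) ^ (i + 1) := by
      have e := pow_orderOf_eq_one g₁
      rw [hi] at e
      rw [← pow_two, ← pow_mul, show 2 * (i + 1) = 2 * i + 1 + 1 by ring, pow_succ, e, one_mul]
    rw [h1]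
    exact MulAction.mem_stabilizer_iff.1
      (pow_mem (MulAction.mem_stabilizer_iff.2 h2 : g₁ * g₁ ∈ MulAction.stabilizer X d) _)
  -- pass to prime order and to a fixed point
  obtain ⟨ℓ, hℓ, hℓdvd⟩ := Nat.exists_prime_and_dvd (n := orderOf g₁)
    (fun e => hg₁1 (orderOf_eq_one_iff.1 e))
  obtain ⟨m, hm⟩ := hℓdvd
  have hℓodd : Odd ℓ := (Nat.odd_mul.1 (hm ▸ hg₁odd)).1
  set u := g₁ ^ m with hu
  have hm0 : m ≠ 0 := fun e => by
    have := orderOf_pos g₁
    rw [hm, e, mul_zero] at this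
    omega
  have huord : orderOf u = ℓ := by
    rw [hu, orderOf_pow_of_dvd hm0 ⟨ℓ, by rw [hm, mul_comm]⟩, hm,
      Nat.mul_div_cancel _ (Nat.pos_of_ne_zero hm0)]
  have huinv : z * u * z⁻¹ = u⁻¹ := by rw [hu, ← conj_pow, hinv, inv_pow]
  have hud : u • d = d := MulAction.mem_stabilizer_iff.1
    (pow_mem (MulAction.mem_stabilizer_iff.2 hg₁d : g₁ ∈ MulAction.stabilizer X d) m)
  obtain ⟨v, hv⟩ := AffineTwo.exists_fixed_of_odd c h.cocycle h.two (g := u) (huord ▸ hℓodd)
  obtain ⟨g₀, hg₀⟩ := h.onto v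
  obtain ⟨j₀, hj₀, hj₀d⟩ := h.trans d (g₀⁻¹ • d) hd0
    (fun e => hd0 ((smul_eq_zero_iff_eq g₀⁻¹).1 e))
  set g := g₀ * j₀ with hg
  have hgd : g • d = d := by rw [hg, mul_smul, hj₀d, smul_inv_smul]
  have hcg : c g = v := by rw [hg, h.cocycle, h.zero j₀ hj₀, smul_zero, add_zero, hg₀]
  set x := g⁻¹ * u * g with hx
  have hxH : c x = 0 := by rw [hx, mul_assoc, ← h.eq_iff, h.cocycle u g, hcg, hv]
  have hxd : x • d = d := by
    have hgd' : g⁻¹ • d = d := inv_smul_eq_iff.2 hgd.symm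
    rw [hx, mul_smul, mul_smul, hgd, hud, hgd']
  have hxord : orderOf x = ℓ := by
    rw [← huord, hx]
    simpa using MulEquiv.orderOf_eq (MulAut.conj g⁻¹) u
  have hyinv : g⁻¹ * z * g * x * (g⁻¹ * z * g)⁻¹ = x⁻¹ := by
    calc g⁻¹ * z * g * x * (g⁻¹ * z * g)⁻¹ = g⁻¹ * (z * u * z⁻¹) * g := by rw [hx]; group
      _ = _ := by rw [huinv, hx]; group
  exact ⟨x, g⁻¹ * z * g, d, ℓ, hℓ, hℓodd, hxord, hxH, hxd, hd0, hyinv,
    h.ne_zero_of_involution (by simpa using (MulEquiv.orderOf_eq (MulAut.conj g⁻¹) z).trans hz2)⟩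

/-- Such an element centralises no non-trivial element of `J`. -/
theorem eq_one_of_comm_inverted {x y : X} {d : V} (hd : d ≠ 0) (hxd : x • d = d) (hx1 : x ≠ 1)
    (hx : c x = 0) (hinv : y * x * y⁻¹ = x⁻¹) (hy0 : c y ≠ 0) {k : X} (hk : k ∈ J)
    (hkx : k * x = x * k) : k = 1 := by
  by_contra hk1
  have hcy : x • c y = c y := h.smul_eq_of_inv hx hinv
  set w := y * k * y⁻¹ with hw
  have hwx : w * x = x * w := by
    have e : y⁻¹ * x * y = x⁻¹ := by
      rw [← inv_inj, inv_inv]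
      calc (y⁻¹ * x * y)⁻¹ = y⁻¹ * x⁻¹ * y := by group
        _ = y⁻¹ * (y * x * y⁻¹) * y := by rw [hinv]
        _ = x := by group
    have e2 : k * x⁻¹ = x⁻¹ * k := (Commute.inv_right (show Commute k x from hkx)).eq
    calc w * x = y * (k * (y⁻¹ * x * y)) * y⁻¹ := by rw [hw]; group
      _ = y * (x⁻¹ * k) * y⁻¹ := by rw [e, e2]
      _ = (y * x * y⁻¹)⁻¹ * w := by rw [hw]; group
      _ = x * w := by rw [hinv, inv_inv]
  have hcw : c w ≠ 0 := by
    intro e
    have e1 : c (w * y) = w • c y := by rw [h.cocycle, e, zero_add]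
    have e2 : w * y = y * k := by rw [hw, inv_mul_cancel_right]
    rw [e2, h.cocycle, h.zero k hk, smul_zero, add_zero] at e1
    refine hk1 (h.free hk (v := y⁻¹ • c y) (fun h0 => hy0 ((smul_eq_zero_iff_eq y⁻¹).1 h0)) ?_)
    conv_rhs => rw [e1]
    rw [hw, smul_smul, smul_smul]
    congr 1
    group
  have hxw : x • c w = c w := h.smul_eq_of_comm hx hwx.symm
  obtain ⟨j, hj, hjw⟩ := h.trans (c w) (c y) hcw hy0
  have hjx : j * x = x * j := by
    have h1 : x * j * x⁻¹ ∈ J := h.norm x hx j hj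
    have h2 : x * j * x⁻¹ = j := by
      have := h.free (j := j⁻¹ * (x * j * x⁻¹)) (mul_mem (inv_mem hj) h1) hcw (by
        rw [mul_smul, mul_smul, mul_smul, inv_smul_eq_iff.2 hxw.symm, hjw, hcy, ← hjw,
          inv_smul_smul])
      exact (inv_mul_eq_one.1 this).symm
    exact (mul_inv_eq_iff_eq_mul.1 h2).symm
  set t := j * w with ht
  have hct : c t = c y := by rw [ht, h.cocycle, h.zero j hj, zero_add, hjw]
  have htx : t * x = x * t := by rw [ht, mul_assoc, hwx, ← mul_assoc, hjx, mul_assoc]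
  refine hx1 (h.not_inverted hx (h.eq_iff.1 hct : c (t⁻¹ * y) = 0) ?_ hd hxd)
  calc t⁻¹ * y * x * (t⁻¹ * y)⁻¹ = t⁻¹ * (y * x * y⁻¹) * t := by group
    _ = x⁻¹ := by
      rw [hinv, mul_assoc, ← (Commute.inv_right (show Commute t x from htx)).eq,
        inv_mul_cancel_left]

/-- The order of an inverted element is the degree. -/
theorem order_eq {x y : X} {d : V} {ℓ : ℕ} (hℓ : ℓ.Prime) (hord : orderOf x = ℓ) (hx : c x = 0)
    (hxd : x • d = d) (hd : d ≠ 0) (hinv : y * x * y⁻¹ = x⁻¹) (hy0 : c y ≠ 0) : ℓ = r := by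
  haveI := h.cyclic
  have hx1 : x ≠ 1 := fun e => hℓ.ne_one (by rw [← hord, e, orderOf_one])
  obtain ⟨i, -, hi⟩ := h.exists_pow hx
  obtain ⟨γ, hγ⟩ := IsCyclic.exists_ofOrder_eq_natCard (α := J)
  have hγn : orderOf (γ : X) = 2 ^ r - 1 := by
    rw [Subgroup.orderOf_coe, hγ]
    have := h.card_J
    omega
  have hr := h.two_le
  -- no element of `J` is centralised
  have hgcd : Nat.gcd i r = 1 := by
    set g := Nat.gcd i r with hg
    have hm : (2 : ℕ) ^ g - 1 = Nat.gcd (2 ^ i - 1) (2 ^ r - 1) := by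
      rw [Nat.pow_sub_one_gcd_pow_sub_one]
    obtain ⟨s, hs⟩ := Nat.gcd_dvd_right (2 ^ i - 1) (2 ^ r - 1)
    rw [← hm] at hs
    obtain ⟨a, ha⟩ := Nat.gcd_dvd_left (2 ^ i - 1) (2 ^ r - 1)
    rw [← hm] at ha
    set k := (γ : X) ^ s with hk
    have hkord : orderOf k ∣ 2 ^ g - 1 := orderOf_dvd_of_pow_eq_one (by
      rw [hk, ← pow_mul, mul_comm, ← hs, ← hγn, pow_orderOf_eq_one])
    have hki : k ^ 2 ^ i = k := by
      conv_lhs => rw [show 2 ^ i = (2 ^ i - 1) + 1 by have := Nat.one_le_two_pow (n := i); omega]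
      rw [pow_succ, orderOf_dvd_iff_pow_eq_one.1 (hkord.trans ⟨a, ha⟩), one_mul]
    have hk1 : k = 1 := by
      refine h.eq_one_of_comm_inverted hd hxd hx1 hx hinv hy0 (pow_mem γ.2 s) ?_
      have e := hi k (pow_mem γ.2 s)
      rw [hki] at e
      exact (mul_inv_eq_iff_eq_mul.1 e).symm
    have hs0 : 2 ^ r - 1 ∣ s := hγn ▸ orderOf_dvd_of_pow_eq_one (hk ▸ hk1)
    have hrpos : 0 < 2 ^ r - 1 := by have := Nat.one_lt_two_pow (n := r) (by omega); omega
    have hg1 : 2 ^ g - 1 = 1 := by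
      obtain ⟨b, hb⟩ := hs0
      rw [hb, ← mul_assoc, mul_comm (2 ^ g - 1), mul_assoc] at hs
      exact Nat.eq_one_of_mul_eq_one_right (Nat.eq_of_mul_eq_mul_left hrpos
        (hs.symm.trans (mul_one _).symm))
    have : 2 ^ g = 2 ^ 1 := by omega
    exact Nat.pow_right_injective le_rfl this
  -- the power `x ^ ℓ = 1` fixes `γ`
  have hstep : ∀ k : ℕ, x ^ k * (γ : X) * (x ^ k)⁻¹ = (γ : X) ^ 2 ^ (i * k) := by
    intro k
    induction k with
    | zero => simp
    | succ k ih =>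
      rw [pow_succ', show x * x ^ k * (γ : X) * (x * x ^ k)⁻¹ =
        x * (x ^ k * (γ : X) * (x ^ k)⁻¹) * x⁻¹ by group, ih, hi _ (pow_mem γ.2 _), ← pow_mul,
        ← pow_add, mul_add, mul_one]
  have hrdvd : r ∣ i * ℓ := by
    have h1 := hstep ℓ
    rw [← hord, pow_orderOf_eq_one, one_mul, inv_one, mul_one, hord] at h1
    have h2 : 2 ^ r - 1 ∣ 2 ^ (i * ℓ) - 1 := by
      rw [← hγn]
      refine orderOf_dvd_of_pow_eq_one (mul_right_cancel (b := (γ : X)) ?_)
      rw [← pow_succ, Nat.sub_add_cancel Nat.one_le_two_pow, one_mul, ← h1]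
    have h3 : Nat.gcd (2 ^ (i * ℓ) - 1) (2 ^ r - 1) = 2 ^ r - 1 := Nat.gcd_eq_right h2
    rw [Nat.pow_sub_one_gcd_pow_sub_one] at h3
    have h4 : 2 ^ Nat.gcd (i * ℓ) r = 2 ^ r := by
      have := Nat.one_le_two_pow (n := r)
      have := Nat.one_le_two_pow (n := Nat.gcd (i * ℓ) r)
      omega
    exact Nat.gcd_eq_right_iff_dvd.1 (Nat.pow_right_injective le_rfl h4)
  have : r ∣ ℓ := (Nat.Coprime.symm hgcd).dvd_of_dvd_mul_left hrdvd
  exact ((Nat.dvd_prime hℓ).1 this).resolve_left (by omega) |>.symm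

theorem exists_pair : ∃ x y d, AffinePair c r x y d := by
  obtain ⟨x, y, d, ℓ, hℓ, hℓodd, hord, hx, hxd, hd, hinv, hy0⟩ := h.exists_inverted
  obtain rfl : ℓ = r := h.order_eq hℓ hord hx hxd hd hinv hy0
  have hx1 : x ≠ 1 := fun e => hℓ.ne_one (by rw [← hord, e, orderOf_one])
  have hfix : ∀ v : V, x • v = v → v = 0 ∨ v = d := by
    intro v hv
    by_cases hv0 : v = 0
    · exact Or.inl hv0
    obtain ⟨j, hj, hjv⟩ := h.trans d v hd hv0
    have h1 : j⁻¹ * (x * j * x⁻¹) = 1 := h.free (mul_mem (inv_mem hj) (h.norm x hx j hj)) hd (by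
      rw [mul_smul, mul_smul, mul_smul, inv_smul_eq_iff.2 hxd.symm, hjv, hv, ← hjv, inv_smul_smul])
    have h2 : j = 1 := h.eq_one_of_comm_inverted hd hxd hx1 hx hinv hy0 hj
      (mul_inv_eq_iff_eq_mul.1 (inv_mul_eq_one.1 h1).symm).symm
    exact Or.inr (by rw [← hjv, h2, one_smul])
  have hcy : c y = d := (hfix _ (h.smul_eq_of_inv hx hinv)).resolve_left hy0
  have hyd : y • d = d := by
    refine (hfix _ ?_).resolve_left fun e => hd ((smul_eq_zero_iff_eq y).1 e)
    have e : x⁻¹ • y • d = y • d := by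
      rw [← hinv, mul_smul, inv_smul_smul, mul_smul, hxd]
    exact (inv_smul_eq_iff.1 e).symm
  -- an odd power of `y` is an involution
  have hc0 : c (y * y) = 0 := by rw [h.cocycle, hcy, hyd, h.two]
  have hd2 : (y * y) • d = d := by rw [mul_smul, hyd, hyd]
  obtain ⟨a, ha⟩ := h.odd _ hc0
  have hcom : Commute (y * y) x := by
    refine mul_inv_eq_iff_eq_mul.1 ?_
    calc y * y * x * (y * y)⁻¹ = y * (y * x * y⁻¹) * y⁻¹ := by group
      _ = y * x⁻¹ * y⁻¹ := by rw [hinv]
      _ = (y * x * y⁻¹)⁻¹ := by group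
      _ = x := by rw [hinv, inv_inv]
  set y' := y * (y * y) ^ a with hy'
  have hy'2 : y' * y' = 1 := by
    have hcomm : Commute y ((y * y) ^ a) :=
      ((Commute.refl y).mul_right (Commute.refl y)).pow_right a
    rw [hy', hcomm.symm.mul_mul_mul_comm, ← pow_add, ← pow_succ', ← two_mul, ← ha,
      pow_orderOf_eq_one]
  have hy'inv : y' * x * y'⁻¹ = x⁻¹ := by
    calc y' * x * y'⁻¹ = y * ((y * y) ^ a * x * ((y * y) ^ a)⁻¹) * y⁻¹ := by rw [hy']; group
      _ = x⁻¹ := by rw [(hcom.pow_left a).eq, mul_inv_cancel_right, hinv]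
  have hcy' : c y' = d := by
    rw [hy', h.cocycle, hcy, (h.mem_zeros).1 (pow_mem (h.mem_zeros.2 hc0) a), smul_zero, add_zero]
  have hy'd : y' • d = d := by
    have e : (y * y) ^ a • d = d := MulAction.mem_stabilizer_iff.1
      (pow_mem (MulAction.mem_stabilizer_iff.2 hd2 : y * y ∈ MulAction.stabilizer X d) a)
    rw [hy', mul_smul, e, hyd]
  exact ⟨x, y', d, hℓ, hℓodd, hord, hx, hxd, hd, hfix, hy'inv, hcy', hy'd,
    orderOf_eq_prime (by rw [pow_two, hy'2]) (fun e => hd (by rw [← hcy', e, h.map_one]))⟩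

end AffineSetting

end CfsgLib.LocalEven.OnePointFront.Nonfull
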