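import Mathlib

/-!
# Groups of order `2 ^ a * r`

If the normaliser of a subgroup of prime order `r` has order at most `2 r` and no element of order
`r` normalises a Sylow `2`-subgroup, then there is a normal subgroup of order `2 ^ (a - 1)`.
-/

set_option autoImplicit false
set_option linter.style.haveILetI false

namespace CfsgLib.LocalEven.OnePointFront.Nonfull

open Subgroup

theorem exists_normal_half {G : Type*} [Group G] [Finite G] {r a : ℕ} (hr : r.Prime) (hr2 : r ≠ 2)
    (hG : Nat.card G = 2 ^ a * r) {x : G} (hx : orderOf x = r)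
    (hN : Nat.card (Subgroup.normalizer (Subgroup.zpowers x : Set G)) ≤ 2 * r)
    (hP : ∀ P : Sylow 2 G, x ∉ Subgroup.normalizer ((P : Subgroup G) : Set G)) :
    ∃ D : Subgroup G, D.Normal ∧ Nat.card D * 2 = 2 ^ a := by
  classical
  haveI : Fact (Nat.Prime 2) := ⟨Nat.prime_two⟩
  haveI := Fact.mk hr
  haveI : Fintype G := Fintype.ofFinite G
  haveI : Fintype (Sylow 2 G) := Fintype.ofFinite _
  haveI : Fintype (Sylow r G) := Fintype.ofFinite _
  have hodd : Odd r := hr.odd_of_ne_two hr2
  have hcard : ∀ P : Sylow 2 G, Nat.card (P : Subgroup G) = 2 ^ a := fun P => by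
    obtain ⟨b, hb⟩ := P.isPGroup'.exists_card_eq
    have hcop : ∀ {m : ℕ}, ¬ 2 ∣ m → ∀ k, Nat.Coprime (2 ^ k) m := fun h k =>
      Nat.Coprime.pow_left k ((Nat.prime_two.coprime_iff_not_dvd).2 h)
    have e := (P : Subgroup G).card_mul_index
    rw [hb, hG] at e
    rw [hb]
    exact Nat.dvd_antisymm
      ((hcop (fun h => by obtain ⟨k, hk⟩ := hodd; omega) b).dvd_of_dvd_mul_right ⟨_, e.symm⟩)
      ((hcop P.not_dvd_index a).dvd_of_dvd_mul_right ⟨r, e⟩)
  -- the Sylow `r`-subgroups
  have hxcard : Nat.card (zpowers x) = r := by rw [Nat.card_zpowers, hx]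
  let X : Sylow r G := (IsPGroup.of_card (p := r) (n := 1) (G := zpowers x)
    (by rw [hxcard, pow_one])).toSylow (fun hdvd => by
      have e := (zpowers x).card_mul_index
      rw [hxcard, hG, mul_comm (2 ^ a) r] at e
      rw [Nat.eq_of_mul_eq_mul_left hr.pos e] at hdvd
      exact hr2 ((Nat.prime_dvd_prime_iff_eq hr Nat.prime_two).1 (hr.dvd_of_dvd_pow hdvd)))
  have hcardR : ∀ R : Sylow r G, Nat.card (R : Subgroup G) = r := fun R => by
    rw [R.card_eq_multiplicity, ← X.card_eq_multiplicity]; exact hxcard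
  -- no element of order `r` normalises a Sylow `2`-subgroup
  have hmove : ∀ g : G, orderOf g = r → ∀ P : Sylow 2 G, g • P ≠ P := by
    intro g hg P hgP
    have hgS : Nat.card (zpowers g) = r := by rw [Nat.card_zpowers, hg]
    let Y : Sylow r G := (IsPGroup.of_card (p := r) (n := 1) (G := zpowers g)
      (by rw [hgS, pow_one])).toSylow (fun hdvd => by
        have e := (zpowers g).card_mul_index
        rw [hgS, hG, mul_comm (2 ^ a) r] at e
        rw [Nat.eq_of_mul_eq_mul_left hr.pos e] at hdvd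
        exact hr2 ((Nat.prime_dvd_prime_iff_eq hr Nat.prime_two).1 (hr.dvd_of_dvd_pow hdvd)))
    obtain ⟨h, hh⟩ := MulAction.exists_smul_eq G X Y
    have hhx : h * x * h⁻¹ ∈ zpowers g := by
      have h1 : MulAut.conj h x ∈ (Y : Subgroup G) := by
        rw [← hh, Sylow.coe_subgroup_smul]
        exact Subgroup.smul_mem_pointwise_smul x _ _ (mem_zpowers x)
      exact h1
    have hfix : (h * x * h⁻¹) • P = P := by
      obtain ⟨k, hk⟩ := mem_zpowers_iff.1 hhx
      rw [← hk]
      exact zpow_mem (MulAction.mem_stabilizer_iff.2 hgP : g ∈ MulAction.stabilizer G P) k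
    refine hP (h⁻¹ • P) (Sylow.smul_eq_iff_mem_normalizer.1 ?_)
    rw [mul_smul, mul_smul] at hfix
    exact eq_inv_smul_iff.2 hfix
  have hn2 : Nat.card (Sylow 2 G) = r := by
    obtain ⟨P⟩ : Nonempty (Sylow 2 G) := inferInstance
    have hd : Nat.card (Sylow 2 G) ∣ r := by
      have e := (P : Subgroup G).card_mul_index
      rw [hcard, hG] at e
      rw [← Nat.eq_of_mul_eq_mul_left (by positivity) e]
      exact P.card_dvd_index
    refine ((Nat.dvd_prime hr).1 hd).resolve_left fun h1 => ?_
    haveI : Subsingleton (Sylow 2 G) := (Nat.card_eq_one_iff_unique.1 h1).1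
    exact hP P (Sylow.smul_eq_iff_mem_normalizer.1 (Subsingleton.elim _ _))
  -- two Sylow `2`-subgroups with largest intersection
  let S : Finset (Sylow 2 G × Sylow 2 G) := Finset.univ.filter fun p => p.1 ≠ p.2
  obtain ⟨⟨P, Q⟩, hPQ, hmax⟩ := S.exists_max_image
    (fun p => Nat.card ((p.1 : Subgroup G) ⊓ (p.2 : Subgroup G) : Subgroup G)) (by
      obtain ⟨P⟩ : Nonempty (Sylow 2 G) := inferInstance
      exact ⟨(P, x • P), Finset.mem_filter.2 ⟨Finset.mem_univ _, fun e => hmove x hx P e.symm⟩⟩)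
  replace hPQ : P ≠ Q := (Finset.mem_filter.1 hPQ).2
  set D : Subgroup G := (P : Subgroup G) ⊓ (Q : Subgroup G) with hD
  have huniq : ∀ R R' : Sylow 2 G, D < (R : Subgroup G) ⊓ (R' : Subgroup G) → R = R' := by
    intro R R' hlt
    by_contra hne
    exact (Nat.lt_irrefl _) (lt_of_lt_of_le (lt_of_le_of_ne (Subgroup.card_le_of_le hlt.le)
      fun e => hlt.ne (Subgroup.eq_of_le_of_card_ge hlt.le e.ge))
      (hmax (R, R') (Finset.mem_filter.2 ⟨Finset.mem_univ _, hne⟩)))
  -- the normaliser of `D` has order divisible by `r`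
  set K := Subgroup.normalizer (D : Set G) with hK
  have hlt : ∀ R : Sylow 2 G, D ≤ (R : Subgroup G) → D ≠ (R : Subgroup G) →
      D < (R : Subgroup G) ⊓ K := by
    intro R hle hne
    haveI : Group.IsNilpotent (R : Subgroup G) := R.isPGroup'.isNilpotent
    have hlt' : D.subgroupOf (R : Subgroup G) < ⊤ := by
      refine lt_top_iff_ne_top.2 fun e => hne (le_antisymm hle ?_)
      exact Subgroup.subgroupOf_eq_top.1 e
    obtain ⟨z, hz, hzD⟩ := SetLike.exists_of_lt
      (Group.normalizerCondition_of_isNilpotent (G := (R : Subgroup G)) _ hlt')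
    refine lt_of_le_of_ne (le_inf hle le_normalizer) fun e => hzD ?_
    rw [Subgroup.mem_subgroupOf, e]
    refine mem_inf.2 ⟨z.2, mem_normalizer_iff.2 fun w => ⟨fun hw => ?_, fun hw => ?_⟩⟩
    · exact mem_subgroupOf.1 ((mem_normalizer_iff.1 hz ⟨w, hle hw⟩).1 (mem_subgroupOf.2 hw))
    · have hwR : w ∈ (R : Subgroup G) := by
        have h1 := hle hw
        have : w = (z : G)⁻¹ * ((z : G) * w * (z : G)⁻¹) * z := by group
        rw [this]
        exact mul_mem (mul_mem (inv_mem z.2) h1) z.2
      exact mem_subgroupOf.1 ((mem_normalizer_iff.1 hz ⟨w, hwR⟩).2 (mem_subgroupOf.2 hw))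
  have hDP : D ≠ (P : Subgroup G) := fun e => hPQ (Sylow.ext (Subgroup.eq_of_le_of_card_ge
    (inf_eq_left.1 e) (by rw [hcard, hcard])))
  have hDQ : D ≠ (Q : Subgroup G) := fun e => hPQ (Sylow.ext (Subgroup.eq_of_le_of_card_ge
    (inf_eq_right.1 e) (by rw [hcard, hcard])).symm)
  obtain ⟨g, hgK, hg⟩ : ∃ g ∈ K, orderOf g = r := by
    by_cases hdvd : r ∣ Nat.card K
    · obtain ⟨g, hg⟩ := exists_prime_orderOf_dvd_card' (G := K) r hdvd
      exact ⟨g, g.2, by rw [orderOf_coe, hg]⟩
    exfalso
    have hKd : Nat.card K ∣ 2 ^ a * r := hG ▸ K.card_subgroup_dvd_card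
    have hK2 : Nat.card K ∣ 2 ^ a :=
      (Nat.Coprime.symm ((hr.coprime_iff_not_dvd).2 hdvd)).dvd_of_dvd_mul_right hKd
    obtain ⟨k, -, hk⟩ := (Nat.dvd_prime_pow Nat.prime_two).1 hK2
    obtain ⟨R, hR⟩ := (IsPGroup.of_card hk).exists_le_sylow
    have e1 : P = R := huniq P R ((hlt P inf_le_left hDP).trans_le (inf_le_inf_left _ hR))
    have e2 : Q = R := huniq Q R ((hlt Q inf_le_right hDQ).trans_le (inf_le_inf_left _ hR))
    exact hPQ (e1.trans e2.symm)
  -- `D` lies in every Sylow `2`-subgroup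
  have hall : ∀ R : Sylow 2 G, D ≤ (R : Subgroup G) := by
    have hper : ∀ i : ℕ, D ≤ ((g ^ i • P : Sylow 2 G) : Subgroup G) := fun i d hd => by
      rw [Sylow.coe_subgroup_smul, Subgroup.mem_pointwise_smul_iff_inv_smul_mem]
      have h1 := (mem_normalizer_iff.1 (inv_mem (pow_mem hgK i : g ^ i ∈ K)) d).1 hd
      have h2 : (MulAut.conj (g ^ i))⁻¹ • d = (g ^ i)⁻¹ * d * (g ^ i)⁻¹⁻¹ := by
        rw [← map_inv]; rfl
      rw [h2]
      exact inf_le_left (a := (P : Subgroup G)) h1
    have hinj : Function.Injective (fun i : Fin r => g ^ (i : ℕ) • P) := by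
      suffices key : ∀ i j : ℕ, i < j → j < r → g ^ i • P ≠ g ^ j • P by
        intro i j e
        by_contra hne
        rcases Nat.lt_or_gt_of_ne (fun h => hne (Fin.ext h)) with h | h
        · exact key _ _ h j.2 e
        · exact key _ _ h i.2 e.symm
      intro i j hij hj e
      have e' : g ^ (j - i) • P = P := by
        rw [← Nat.add_sub_cancel' hij.le, pow_add, mul_smul] at e
        exact ((MulAction.injective (g ^ i)) e).symm
      refine hmove (g ^ (j - i)) ?_ P e'
      rw [Nat.Coprime.orderOf_pow, hg]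
      rw [hg]
      exact (hr.coprime_iff_not_dvd).2 fun h => by
        have := Nat.le_of_dvd (by omega) h
        omega
    intro R
    obtain ⟨i, hi⟩ := (hinj.bijective_of_nat_card_le (by rw [hn2, Nat.card_fin])).2 R
    rw [← hi]
    exact hper i
  have hint : ∀ R R' : Sylow 2 G, R ≠ R' → (R : Subgroup G) ⊓ (R' : Subgroup G) = D := by
    intro R R' hne
    by_contra h
    exact hne (huniq R R' (lt_of_le_of_ne (le_inf (hall R) (hall R')) (Ne.symm h)))
  have hDn : D.Normal := ⟨fun d hd t => by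
    have h1 : ∀ R : Sylow 2 G, t * d * t⁻¹ ∈ (R : Subgroup G) := fun R => by
      have h := hall (t⁻¹ • R) hd
      rw [Sylow.coe_subgroup_smul, Subgroup.mem_pointwise_smul_iff_inv_smul_mem, ← map_inv,
        inv_inv] at h
      exact h
    exact mem_inf.2 ⟨h1 P, h1 Q⟩⟩
  refine ⟨D, hDn, ?_⟩
  -- count the elements
  set d := Nat.card D with hd
  have hdlt : d < 2 ^ a := hcard P ▸ lt_of_le_of_ne (Subgroup.card_le_of_le inf_le_left)
    fun e => hDP (Subgroup.eq_of_le_of_card_ge inf_le_left e.ge)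
  have hFD : ((Finset.univ : Finset G).filter (· ∈ D)).card = d := by
    rw [hd, Nat.card_eq_fintype_card]
    exact (Fintype.card_subtype _).symm
  let U : Sylow 2 G → Finset G := fun R =>
    ((Finset.univ : Finset G).filter (· ∈ (R : Subgroup G))) \
      (Finset.univ.filter (· ∈ D))
  have hU : ∀ R, (U R).card = 2 ^ a - d := fun R => by
    rw [Finset.card_sdiff_of_subset (Finset.monotone_filter_right _ (fun z _ hz => hall R hz)),
      hFD]
    congr 1
    rw [← hcard R, Nat.card_eq_fintype_card]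
    exact (Fintype.card_subtype _).symm
  let B := (Finset.univ : Finset (Sylow 2 G)).biUnion U
  have hB : B.card = r * (2 ^ a - d) := by
    rw [Finset.card_biUnion ?_, Finset.sum_congr rfl fun R _ => hU R, Finset.sum_const,
      Finset.card_univ, ← Nat.card_eq_fintype_card, hn2, smul_eq_mul]
    intro R _ R' _ hne
    rw [Function.onFun, Finset.disjoint_left]
    intro z hz hz'
    simp only [U, Finset.mem_sdiff, Finset.mem_filter, Finset.mem_univ, true_and] at hz hz'
    exact hz.2 (hint R R' hne ▸ mem_inf.2 ⟨hz.1, hz'.1⟩)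
  let A := (Finset.univ : Finset G).filter (fun z => orderOf z = r)
  have hA : (Nat.card (Sylow r G)) * (r - 1) ≤ A.card := by
    let V : Sylow r G → Finset G := fun R =>
      ((Finset.univ : Finset G).filter (· ∈ (R : Subgroup G))).erase 1
    have hV : ∀ R, (V R).card = r - 1 := fun R => by
      rw [Finset.card_erase_of_mem (by simp)]
      congr 1
      rw [← Fintype.card_subtype, ← Nat.card_eq_fintype_card]
      exact hcardR R
    have hord : ∀ R : Sylow r G, ∀ z ∈ (R : Subgroup G), z ≠ 1 → orderOf z = r := by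
      intro R z hz hz1
      have h1 : orderOf z ∣ r := hcardR R ▸ Subgroup.orderOf_dvd_natCard _ hz
      exact ((Nat.dvd_prime hr).1 h1).resolve_left fun h => hz1 (orderOf_eq_one_iff.1 h)
    calc Nat.card (Sylow r G) * (r - 1)
        = ((Finset.univ : Finset (Sylow r G)).biUnion V).card := by
          rw [Finset.card_biUnion ?_, Finset.sum_congr rfl fun R _ => hV R, Finset.sum_const,
            Finset.card_univ, ← Nat.card_eq_fintype_card, smul_eq_mul]
          intro R _ R' _ hne
          rw [Function.onFun, Finset.disjoint_left]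
          intro z hz hz'
          simp only [V, Finset.mem_erase, Finset.mem_filter, Finset.mem_univ, true_and] at hz hz'
          refine hne (Sylow.ext ?_)
          have hgen : ∀ T : Sylow r G, z ∈ (T : Subgroup G) → zpowers z = (T : Subgroup G) :=
            fun T hT => Subgroup.eq_of_le_of_card_ge (zpowers_le.2 hT)
              (by rw [Nat.card_zpowers, hord T z hT hz.1, hcardR])
          rw [← hgen R hz.2, ← hgen R' hz'.2]
      _ ≤ A.card := by
          refine Finset.card_le_card fun z hz => ?_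
          simp only [Finset.mem_biUnion, V, Finset.mem_erase, Finset.mem_filter, Finset.mem_univ,
            true_and] at hz
          obtain ⟨R, hz1, hzR⟩ := hz
          exact Finset.mem_filter.2 ⟨Finset.mem_univ _, hord R z hzR hz1⟩
  have hdisj : (Finset.univ.filter (· ∈ D) ∪ B).card + A.card ≤ 2 ^ a * r := by
    rw [← Finset.card_union_of_disjoint ?_, ← hG, Nat.card_eq_fintype_card]
    · exact Finset.card_le_univ _
    rw [Finset.disjoint_left]
    intro z hz hzA
    have hzr : orderOf z = r := (Finset.mem_filter.1 hzA).2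
    obtain ⟨R, hR⟩ : ∃ R : Sylow 2 G, z ∈ (R : Subgroup G) := by
      rcases Finset.mem_union.1 hz with h | h
      · exact ⟨P, (inf_le_left : D ≤ _) (Finset.mem_filter.1 h).2⟩
      · obtain ⟨R, -, h⟩ := Finset.mem_biUnion.1 h
        exact ⟨R, (Finset.mem_filter.1 (Finset.mem_sdiff.1 h).1).2⟩
    exact hmove z hzr R (Sylow.smul_eq_iff_mem_normalizer.2 (le_normalizer hR))
  rw [Finset.card_union_of_disjoint ?_, hFD, hB] at hdisj
  swap
  · rw [Finset.disjoint_left]
    intro z hz hzB
    obtain ⟨R, -, h⟩ := Finset.mem_biUnion.1 hzB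
    exact (Finset.mem_sdiff.1 h).2 hz
  have hidx : 2 ^ a ≤ 2 * Nat.card (Sylow r G) := by
    rw [X.card_eq_index_normalizer]
    have e := (Subgroup.normalizer ((X : Subgroup G) : Set G)).card_mul_index
    rw [hG] at e
    refine Nat.le_of_mul_le_mul_right ?_ hr.pos
    rw [← e, mul_right_comm]
    exact Nat.mul_le_mul_right _ hN
  -- arithmetic
  obtain ⟨b, -, hb⟩ := (Nat.dvd_prime_pow Nat.prime_two).1
    (hcard P ▸ Subgroup.card_dvd_of_le (inf_le_left : D ≤ _) : d ∣ 2 ^ a)
  have hba : b < a := (Nat.pow_lt_pow_iff_right (by norm_num)).1 (hb ▸ hdlt)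
  have h2b : 2 ^ (b + 1) ≤ 2 ^ a := Nat.pow_le_pow_right (by norm_num) hba
  have hr3 : 3 ≤ r := by have := hr.two_le; omega
  have key : 2 ^ a * (r - 1) ≤ d * 2 * (r - 1) := by
    obtain ⟨s, rfl⟩ : ∃ s, r = s + 1 := ⟨r - 1, by omega⟩
    obtain ⟨e, he⟩ := Nat.exists_eq_add_of_le hdlt.le
    rw [he, Nat.add_sub_cancel_left] at hdisj
    rw [Nat.add_sub_cancel] at hA ⊢
    have : A.card ≤ d * s := by nlinarith
    calc 2 ^ a * s ≤ 2 * Nat.card (Sylow (s + 1) G) * s := Nat.mul_le_mul_right s hidx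
      _ ≤ 2 * A.card := by rw [mul_assoc]; exact Nat.mul_le_mul_left 2 hA
      _ ≤ 2 * (d * s) := Nat.mul_le_mul_left 2 this
      _ = d * 2 * s := by ring
  have := Nat.le_of_mul_le_mul_right key (by omega)
  rw [pow_succ, ← hb] at h2b
  omega

end CfsgLib.LocalEven.OnePointFront.Nonfull
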