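import Cfsg.Agent.Lib.LocalEven.OnePointFront.Nonfull.AffineInverted
import Cfsg.Agent.Lib.LocalEven.OnePointFront.Nonfull.PrimeTimesTwoPower

/-!
# Affine groups with an inverted element of order the degree

All involutions are conjugate with centralisers of order `2 ^ r`, a subgroup of that order has one
central involution, and the stabiliser of the vector `d` has a normal subgroup of half that order;
this forces `r = 3`.
-/

set_option autoImplicit false
set_option linter.style.haveILetI false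
set_option linter.unusedSectionVars false

namespace CfsgLib.LocalEven.OnePointFront.Nonfull

open Subgroup

universe u v

namespace AffineSetting

variable {X : Type u} {V : Type v} [Group X] [AddCommGroup V] [DistribMulAction X V]
  {c : X → V} {J : Subgroup X} {r : ℕ} (h : AffineSetting c J r)
variable [Finite X] [Finite V] [FaithfulSMul X V]
variable {x y : X} {d : V} (p : AffinePair c r x y d)

include h p

theorem pair_yy : y * y = 1 := by rw [← pow_two, ← p.ordy, pow_orderOf_eq_one]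

theorem pair_x_ne : x ≠ 1 := fun e => p.prime.ne_one (by rw [← p.ord, e, orderOf_one])

theorem mem_zpowers_fix {g : X} (hg : g ∈ zpowers x) : c g = 0 ∧ g • d = d :=
  ⟨(zpowers_le.2 (h.mem_zeros.2 p.cx)) hg,
    MulAction.mem_stabilizer_iff.1
      ((zpowers_le.2 (MulAction.mem_stabilizer_iff.2 p.xd : x ∈ MulAction.stabilizer X d)) hg)⟩

/-- The stabiliser of the origin and `d`. -/
theorem mem_zpowers_of_fix {g : X} (hg : c g = 0) (hgd : g • d = d) : g ∈ zpowers x := by
  classical
  let E : Subgroup X := h.zeros ⊓ MulAction.stabilizer X d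
  have hE : ∀ a : X, a ∈ E ↔ c a = 0 ∧ a • d = d := fun a => Iff.rfl
  have hle : zpowers x ≤ E := fun a ha => (hE a).2 (h.mem_zpowers_fix p ha)
  choose i hir hi using fun a : E => h.exists_pow ((hE _).1 a.2).1
  have hinj : Function.Injective (fun a : E => (⟨i a, hir a⟩ : Fin r)) := fun a b e => by
    have e' : i a = i b := congrArg Fin.val e
    exact Subtype.ext (h.eq_of_pow p.dne ((hE _).1 a.2).2 ((hE _).1 b.2).2 (hi a)
      (fun j hj => e' ▸ hi b j hj))
  have hcard := Nat.card_le_card_of_injective _ hinj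
  rw [Nat.card_fin] at hcard
  have heq : zpowers x = E :=
    Subgroup.eq_of_le_of_card_ge hle (by rw [Nat.card_zpowers, p.ord]; exact hcard)
  rw [heq]
  exact (hE g).2 ⟨hg, hgd⟩

/-- `y` inverts `⟨x⟩`, and every element of it times `y` is a conjugate of `y`. -/
theorem exists_conj_of_mem {a : X} (ha : a ∈ zpowers x) :
    ∃ b ∈ zpowers x, a * y = b * y * b⁻¹ := by
  obtain ⟨k, rfl⟩ := mem_zpowers_iff.1 ha
  obtain ⟨s, hs⟩ := p.odd_r
  refine ⟨x ^ (k * (s + 1)), zpow_mem_zpowers x _, ?_⟩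
  have h2 : ∀ m : ℤ, y * (x ^ m)⁻¹ = x ^ m * y := fun m => by
    have e : y * x ^ m * y⁻¹ = (x ^ m)⁻¹ := by rw [← conj_zpow, p.inv, inv_zpow]
    calc y * (x ^ m)⁻¹ = y * (y * x ^ m * y⁻¹) := by rw [e]
      _ = (y * y) * x ^ m * y⁻¹ := by group
      _ = x ^ m * y := by rw [h.pair_yy p, one_mul, inv_eq_of_mul_eq_one_right (h.pair_yy p)]
  rw [mul_assoc (x ^ (k * (s + 1) : ℤ)), h2, ← mul_assoc, ← zpow_add]
  congr 1
  refine zpow_eq_zpow_iff_modEq.2 ?_
  rw [p.ord, hs, Int.modEq_iff_dvd]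
  exact ⟨k, by push_cast; ring⟩

/-- An involution moving the origin to `d` is a conjugate of `y`. -/
theorem exists_conj_of_image {t : X} (ht : orderOf t = 2) (htd : c t = d) :
    ∃ b ∈ zpowers x, t = b * y * b⁻¹ := by
  have h1 : t * y ∈ zpowers x := by
    refine h.mem_zpowers_of_fix p ?_ ?_
    · rw [h.cocycle, htd, p.cy, ← htd, h.smul_eq_self_of_involution ht, h.two]
    · rw [mul_smul, p.yd, ← htd, h.smul_eq_self_of_involution ht]
  obtain ⟨b, hb, e⟩ := h.exists_conj_of_mem p h1
  exact ⟨b, hb, by rw [← e, mul_assoc, h.pair_yy p, mul_one]⟩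

/-- All involutions are conjugate. -/
theorem exists_conj {t : X} (ht : orderOf t = 2) : ∃ g : X, t = g * y * g⁻¹ := by
  obtain ⟨j, hj, hjt⟩ := h.trans d (c t) p.dne (h.ne_zero_of_involution ht)
  have h1 : c (j⁻¹ * t * j) = d := by
    rw [mul_assoc, h.cocycle, h.cocycle, h.zero _ (inv_mem hj), h.zero j hj, zero_add, smul_zero,
      add_zero, ← hjt, inv_smul_smul]
  obtain ⟨b, -, e⟩ := h.exists_conj_of_image p (by
    rw [show j⁻¹ * t * j = MulAut.conj j⁻¹ t by simp, MulEquiv.orderOf_eq, ht]) h1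
  refine ⟨j * b, ?_⟩
  calc t = j * (j⁻¹ * t * j) * j⁻¹ := by group
    _ = _ := by rw [e]; group

theorem card_centralizer_y : Nat.card (centralizer ({y} : Set X)) = 2 ^ r := by
  rw [← h.card]
  refine Nat.card_eq_of_bijective (fun g => c (g : X)) ⟨fun a b e => ?_, fun v => ?_⟩
  · refine Subtype.ext (inv_mul_eq_one.1 ?_)
    have hc : (a : X)⁻¹ * b ∈ centralizer ({y} : Set X) := mul_mem (inv_mem a.2) b.2
    rw [mem_centralizer_singleton_iff] at hc
    set g := (a : X)⁻¹ * b
    have hg0 : c g = 0 := h.eq_iff.1 e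
    have hgd : g • d = d := by
      have e1 : c (g * y) = c (y * g) := by rw [hc]
      rw [h.cocycle g y, h.cocycle y g, hg0, p.cy, smul_zero, add_zero, zero_add] at e1
      exact e1
    obtain ⟨k, hk⟩ := mem_zpowers_iff.1 (h.mem_zpowers_of_fix p hg0 hgd)
    have e2 : y * g * y⁻¹ = g⁻¹ := by rw [← hk, ← conj_zpow, p.inv, inv_zpow]
    rw [← hc, mul_inv_cancel_right, eq_inv_iff_mul_eq_one] at e2
    obtain ⟨i, hi⟩ := h.odd g hg0
    have h1 := pow_orderOf_eq_one g
    rwa [hi, pow_succ, pow_mul, pow_two, e2, one_pow, one_mul] at h1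
  · obtain ⟨g₀, hg₀⟩ := h.onto v
    have ht : orderOf (g₀⁻¹ * y * g₀) = 2 := by
      rw [show g₀⁻¹ * y * g₀ = MulAut.conj g₀⁻¹ y by simp, MulEquiv.orderOf_eq, p.ordy]
    obtain ⟨j, hj, hjt⟩ := h.trans d _ p.dne (h.ne_zero_of_involution ht)
    set g := g₀ * j with hg
    have hgv : c g = v := by rw [hg, h.cocycle, h.zero j hj, smul_zero, add_zero, hg₀]
    have ht' : orderOf (g⁻¹ * y * g) = 2 := by
      rw [show g⁻¹ * y * g = MulAut.conj g⁻¹ y by simp, MulEquiv.orderOf_eq, p.ordy]
    have hgd : c (g⁻¹ * y * g) = d := by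
      rw [show g⁻¹ * y * g = j⁻¹ * ((g₀⁻¹ * y * g₀) * j) by rw [hg]; group, h.cocycle, h.cocycle,
        h.zero _ (inv_mem hj), h.zero j hj, smul_zero, add_zero, zero_add, ← hjt, inv_smul_smul]
    obtain ⟨b, hb, e⟩ := h.exists_conj_of_image p ht' hgd
    refine ⟨⟨g * b, mem_centralizer_singleton_iff.2 ?_⟩, ?_⟩
    · calc g * b * y = g * (b * y * b⁻¹) * b := by group
        _ = y * (g * b) := by rw [← e]; group
    · change c (g * b) = v
      rw [h.cocycle, (h.mem_zpowers_fix p hb).1, smul_zero, add_zero, hgv]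

theorem card_centralizer {t : X} (ht : orderOf t = 2) :
    Nat.card (centralizer ({t} : Set X)) = 2 ^ r := by
  obtain ⟨g, rfl⟩ := h.exists_conj p ht
  have e : centralizer ({g * y * g⁻¹} : Set X) =
      (centralizer ({y} : Set X)).map (MulAut.conj g).toMonoidHom := by
    ext a
    rw [mem_centralizer_singleton_iff]
    constructor
    · intro ha
      refine ⟨g⁻¹ * a * g, mem_centralizer_singleton_iff.2 ?_, by simp [mul_assoc]⟩
      calc g⁻¹ * a * g * y = g⁻¹ * (a * (g * y * g⁻¹)) * g := by group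
        _ = y * (g⁻¹ * a * g) := by rw [ha]; group
    · rintro ⟨b, hb, rfl⟩
      have hb' := mem_centralizer_singleton_iff.1 hb
      show g * b * g⁻¹ * (g * y * g⁻¹) = g * y * g⁻¹ * (g * b * g⁻¹)
      calc g * b * g⁻¹ * (g * y * g⁻¹) = g * (b * y) * g⁻¹ := by group
        _ = _ := by rw [hb']; group
  rw [e, Subgroup.card_map_of_injective (MulAut.conj g).injective, h.card_centralizer_y p]

/-- An element commuting with `x` does not move the origin to `d`. -/
theorem not_comm {g : X} (hgd : c g = d) (hgx : g * x = x * g) : False := by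
  refine h.pair_x_ne p (h.not_inverted p.cx (h.eq_iff.1 (p.cy.trans hgd.symm) : c (y⁻¹ * g) = 0) ?_
    p.dne p.xd)
  have e1 : g * x * g⁻¹ = x := by rw [hgx, mul_inv_cancel_right]
  calc y⁻¹ * g * x * (y⁻¹ * g)⁻¹ = y⁻¹ * (g * x * g⁻¹) * y := by group
    _ = y * x * y⁻¹ := by rw [e1, inv_eq_of_mul_eq_one_right (h.pair_yy p)]
    _ = x⁻¹ := p.inv

theorem not_normalize_x {P : Subgroup X} (hP : Nat.card P = 2 ^ r)
    (hx : x ∈ Subgroup.normalizer (P : Set X)) : False := by
  obtain ⟨hone, hon⟩ := h.exists_of_card hP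
  obtain ⟨q, hq, hqd⟩ := hon d
  have hq' : x * q * x⁻¹ ∈ P := (mem_normalizer_iff.1 hx q).1 hq
  have e : c q = c (x * q * x⁻¹) := by
    rw [h.cocycle, h.cocycle, h.map_inv, p.cx, hqd, smul_zero, smul_zero, add_zero, zero_add, p.xd]
  have h1 := hone _ (mul_mem (inv_mem hq) hq') (h.eq_iff.1 e)
  exact h.not_comm p hqd (mul_inv_eq_iff_eq_mul.1 (inv_mul_eq_one.1 h1).symm).symm

/-- An element of order `r` is conjugate into `⟨x⟩`, so it normalises no subgroup of order
`2 ^ r`. -/
theorem not_normalize {g : X} (hg : orderOf g = r) {P : Subgroup X} (hP : Nat.card P = 2 ^ r)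
    (hgP : g ∈ Subgroup.normalizer (P : Set X)) : False := by
  haveI := Fact.mk p.prime
  obtain ⟨v, hv⟩ := TIEndgame.AffineTwo.exists_fixed_of_odd c h.cocycle h.two (g := g)
    (hg ▸ p.odd_r)
  obtain ⟨g₀, hg₀⟩ := h.onto v
  set g' := g₀⁻¹ * g * g₀ with hg'
  have hg'0 : c g' = 0 := by rw [hg', mul_assoc, ← h.eq_iff, h.cocycle, hg₀, hv]
  have hg'r : orderOf g' = r := by
    rw [hg', show g₀⁻¹ * g * g₀ = MulAut.conj g₀⁻¹ g by simp, MulEquiv.orderOf_eq, hg]
  -- a non-zero fixed vector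
  obtain ⟨w, hw0, hw⟩ : ∃ w : V, w ≠ 0 ∧ g' • w = w := by
    by_contra hno
    push Not at hno
    have hz : IsPGroup r (zpowers g') := IsPGroup.of_card (n := 1) (by
      rw [Nat.card_zpowers, hg'r, pow_one])
    have hmod := hz.card_modEq_card_fixedPoints V
    haveI : Unique (MulAction.fixedPoints (zpowers g') V) :=
      ⟨⟨⟨0, fun a => smul_zero (a : X)⟩⟩, fun a => Subtype.ext (by
        by_contra hne
        exact hno (a : V) hne (a.2 ⟨g', mem_zpowers g'⟩))⟩
    rw [h.card, Nat.card_unique] at hmod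
    have h2 : 2 ^ r ≡ 2 [MOD r] := by
      have hcop : Nat.Coprime 2 r := Nat.coprime_two_left.2 p.odd_r
      have h1 := Nat.ModEq.pow_totient hcop
      rw [Nat.totient_prime p.prime] at h1
      have := h1.mul_right 2
      rwa [one_mul, ← pow_succ, Nat.sub_add_cancel p.prime.one_le] at this
    have h3 := (Nat.modEq_iff_dvd' (by norm_num)).1 (hmod.symm.trans h2)
    have := Nat.le_of_dvd (by norm_num) h3
    have := p.prime.two_le
    omega
  obtain ⟨j, hj, hjw⟩ := h.trans d w p.dne hw0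
  set g'' := j⁻¹ * g' * j with hg''
  have hmem : g'' ∈ zpowers x := by
    refine h.mem_zpowers_of_fix p ?_ ?_
    · exact mul_mem (mul_mem (h.mem_zeros.2 (h.zero _ (inv_mem hj))) (h.mem_zeros.2 hg'0))
        (h.mem_zeros.2 (h.zero j hj))
    · rw [hg'', mul_smul, mul_smul, hjw, hw, ← hjw, inv_smul_smul]
  have hord'' : orderOf g'' = r := by
    rw [hg'', show j⁻¹ * g' * j = MulAut.conj j⁻¹ g' by simp, MulEquiv.orderOf_eq, hg'r]
  have hxmem : x ∈ zpowers g'' := by
    rw [Subgroup.eq_of_le_of_card_ge (zpowers_le.2 hmem)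
      (by rw [Nat.card_zpowers, Nat.card_zpowers, p.ord, hord''])]
    exact mem_zpowers x
  set k := g₀ * j with hk
  refine h.not_normalize_x p (P := P.map (MulAut.conj k⁻¹).toMonoidHom)
    (by rw [Subgroup.card_map_of_injective (MulAut.conj k⁻¹).injective, hP]) ?_
  refine zpowers_le.2 ?_ hxmem
  have e : g'' = MulAut.conj k⁻¹ g := by
    rw [hg'', hg', hk, MulAut.conj_apply]; group
  rw [e]
  have := Subgroup.le_normalizer_map (H := P) (MulAut.conj k⁻¹).toMonoidHom
  exact this ⟨g, hgP, rfl⟩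

theorem card_zeros : Nat.card h.zeros = Nat.card J * r := by
  rw [show Nat.card J * r = Nat.card (J × zpowers x) by
    rw [Nat.card_prod, Nat.card_zpowers, p.ord]]
  symm
  refine Nat.card_eq_of_bijective (fun q : J × zpowers x => (⟨(q.1 : X) * q.2,
    mul_mem (h.mem_zeros.2 (h.zero _ q.1.2)) (h.mem_zeros.2 (h.mem_zpowers_fix p q.2.2).1)⟩ :
      h.zeros)) ⟨?_, ?_⟩
  · rintro ⟨a, b⟩ ⟨a', b'⟩ e
    have e' : (a : X) * b = (a' : X) * b' := congrArg Subtype.val e
    have hfix : ∀ u : zpowers x, (u : X) • d = d := fun u => (h.mem_zpowers_fix p u.2).2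
    have ha : (a : X)⁻¹ * (a' : X) = 1 := by
      refine h.free (mul_mem (inv_mem a.2) a'.2) p.dne ?_
      have h1 := congrArg (· • d) e'
      simp only [mul_smul, hfix] at h1
      rw [mul_smul, ← h1, inv_smul_smul]
    obtain rfl : a = a' := Subtype.ext (inv_mul_eq_one.1 ha)
    exact Prod.ext rfl (Subtype.ext (mul_left_cancel e'))
  · rintro ⟨g, hg⟩
    obtain ⟨j, hj, hjd⟩ := h.trans d (g • d) p.dne
      (fun e => p.dne ((smul_eq_zero_iff_eq g).1 e))
    refine ⟨(⟨j, hj⟩, ⟨j⁻¹ * g, h.mem_zpowers_of_fix p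
      (mul_mem (inv_mem (h.mem_zeros.2 (h.zero j hj))) hg) ?_⟩), Subtype.ext ?_⟩
    · rw [mul_smul, ← hjd, inv_smul_smul]
    · exact mul_inv_cancel_left j g

/-- A subgroup of order `2 ^ r` is the centraliser of at most one involution. -/
theorem central_unique {s t : X} (hs : orderOf s = 2) (ht : orderOf t = 2)
    (hst : centralizer ({s} : Set X) = centralizer ({t} : Set X)) : s = t := by
  classical
  haveI : Fact (Nat.Prime 2) := ⟨Nat.prime_two⟩
  set P := centralizer ({t} : Set X) with hPdef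
  have hP : Nat.card P = 2 ^ r := h.card_centralizer p ht
  let Z : Subgroup X :=
    { carrier := {u | u * u = 1 ∧ u ∈ P ∧ ∀ q ∈ P, Commute u q}
      one_mem' := ⟨one_mul 1, one_mem P, fun q _ => Commute.one_left q⟩
      mul_mem' := fun {a b} ha hb => ⟨by
          rw [Commute.mul_mul_mul_comm (ha.2.2 b hb.2.1).symm, ha.1, hb.1, mul_one],
        mul_mem ha.2.1 hb.2.1, fun q hq => (ha.2.2 q hq).mul_left (hb.2.2 q hq)⟩
      inv_mem' := fun {a} ha => by
        rw [inv_eq_of_mul_eq_one_right ha.1]; exact ha }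
  have hZ : ∀ u, u ∈ Z ↔ u * u = 1 ∧ u ∈ P ∧ ∀ q ∈ P, Commute u q := fun u => Iff.rfl
  have hsq : ∀ u : X, orderOf u = 2 → u * u = 1 := fun u hu => by
    rw [← pow_two, ← hu, pow_orderOf_eq_one]
  have htZ : ∀ u : X, orderOf u = 2 → centralizer ({u} : Set X) = P → u ∈ Z := fun u hu e =>
    (hZ u).2 ⟨hsq u hu, e ▸ mem_centralizer_singleton_iff.2 rfl, fun q hq =>
      (mem_centralizer_singleton_iff.1 (e ▸ hq : q ∈ centralizer ({u} : Set X))).symm⟩
  have hC : ∀ u ∈ Z, u ≠ 1 → orderOf u = 2 ∧ centralizer ({u} : Set X) = P := by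
    intro u hu hu1
    obtain ⟨h1, -, h3⟩ := (hZ u).1 hu
    have hord : orderOf u = 2 := orderOf_eq_prime (by rw [pow_two, h1]) hu1
    refine ⟨hord, (Subgroup.eq_of_le_of_card_ge (fun q hq => ?_) ?_).symm⟩
    · exact mem_centralizer_singleton_iff.2 (h3 q hq).symm
    · rw [h.card_centralizer p hord, hP]
  obtain ⟨k, hk⟩ : ∃ k, Nat.card Z = 2 ^ k := by
    obtain ⟨k, hk⟩ := ((IsPGroup.of_card hP).to_le (fun u hu => ((hZ u).1 hu).2.1 : Z ≤ P)).exists_card_eq
    exact ⟨k, hk⟩
  -- the normaliser is transitive on the involutions of `Z`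
  set N := Subgroup.normalizer (P : Set X) with hN
  have hconj : ∀ g : X, ∀ u : X,
      (centralizer ({u} : Set X)).map (MulAut.conj g).toMonoidHom =
        centralizer ({g * u * g⁻¹} : Set X) := fun g u => by
    ext a
    constructor
    · rintro ⟨b, hb, rfl⟩
      refine mem_centralizer_singleton_iff.2 ?_
      have hb' := mem_centralizer_singleton_iff.1 hb
      show g * b * g⁻¹ * (g * u * g⁻¹) = g * u * g⁻¹ * (g * b * g⁻¹)
      calc g * b * g⁻¹ * (g * u * g⁻¹) = g * (b * u) * g⁻¹ := by group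
        _ = _ := by rw [hb']; group
    · intro ha
      have ha' := mem_centralizer_singleton_iff.1 ha
      refine ⟨g⁻¹ * a * g, mem_centralizer_singleton_iff.2 ?_, by simp [mul_assoc]⟩
      calc g⁻¹ * a * g * u = g⁻¹ * (a * (g * u * g⁻¹)) * g := by group
        _ = u * (g⁻¹ * a * g) := by rw [ha']; group
  have hNmap : ∀ g : X, P.map (MulAut.conj g).toMonoidHom = P → g ∈ N := fun g e => by
    rw [hN, mem_normalizer_iff]
    intro a
    refine ⟨fun ha => e ▸ ⟨a, ha, rfl⟩, fun ha => ?_⟩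
    obtain ⟨b, hb, hba⟩ : g * a * g⁻¹ ∈ P.map (MulAut.conj g).toMonoidHom := by rw [e]; exact ha
    have : b = a := mul_left_cancel (mul_right_cancel hba)
    rwa [← this]
  have horbit : ∀ u, u ∈ MulAction.orbit (ConjAct N) (⟨t, Subgroup.le_normalizer
      (mem_centralizer_singleton_iff.2 rfl)⟩ : N) ↔ orderOf u = 2 ∧
        centralizer ({(u : X)} : Set X) = P := by
    intro u
    constructor
    · rintro ⟨g, rfl⟩
      obtain ⟨g, rfl⟩ : ∃ g' : N, ConjAct.toConjAct g' = g := ⟨ConjAct.ofConjAct g, rfl⟩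
      refine ⟨?_, ?_⟩
      · rw [← Subgroup.orderOf_coe]
        show orderOf ((g : X) * t * (g : X)⁻¹) = 2
        rw [show (g : X) * t * (g : X)⁻¹ = MulAut.conj (g : X) t from rfl, MulEquiv.orderOf_eq, ht]
      · show centralizer ({(g : X) * t * (g : X)⁻¹} : Set X) = P
        rw [← hconj]
        exact Subgroup.mem_normalizer_iff_map_conj_eq.1 g.2
    · rintro ⟨hu, hPu⟩
      rw [← Subgroup.orderOf_coe] at hu
      obtain ⟨g, hg⟩ := h.exists_conj p hu
      obtain ⟨g', hg'⟩ := h.exists_conj p ht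
      have e : (g * g'⁻¹) * t * (g * g'⁻¹)⁻¹ = u := by rw [hg, hg']; group
      refine ⟨ConjAct.toConjAct ⟨g * g'⁻¹, hNmap _ ?_⟩, Subtype.ext e⟩
      conv_lhs => rw [hPdef]
      rw [hconj, e, hPu]
  set tN : N := ⟨t, Subgroup.le_normalizer (mem_centralizer_singleton_iff.2 rfl)⟩ with htN
  have hm : Nat.card (MulAction.orbit (ConjAct N) tN) + 1 = 2 ^ k := by
    rw [← hk, ← Finite.card_option]
    refine Nat.card_eq_of_bijective (fun o => o.elim (1 : Z) fun u => ⟨((u : N) : X),
      htZ _ (by rw [Subgroup.orderOf_coe]; exact ((horbit u).1 u.2).1) ((horbit u).1 u.2).2⟩) ⟨?_, ?_⟩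
    · rintro (_ | a) (_ | b) e
      · rfl
      · have e' : (1 : X) = ((b : N) : X) := congrArg Subtype.val e
        have := ((horbit b).1 b.2).1
        rw [← Subgroup.orderOf_coe, ← e', orderOf_one] at this
        omega
      · have e' : ((a : N) : X) = (1 : X) := congrArg Subtype.val e
        have := ((horbit a).1 a.2).1
        rw [← Subgroup.orderOf_coe, e', orderOf_one] at this
        omega
      · exact congrArg some (Subtype.ext (Subtype.ext (congrArg (fun z : Z => (z : X)) e :)))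
    · rintro ⟨u, hu⟩
      by_cases hu1 : u = 1
      · exact ⟨none, Subtype.ext hu1.symm⟩
      · exact ⟨some ⟨⟨u, Subgroup.le_normalizer ((hZ u).1 hu).2.1⟩, (horbit _).2
          ⟨by rw [← Subgroup.orderOf_coe]; exact (hC u hu hu1).1, (hC u hu hu1).2⟩⟩, rfl⟩
  set m := Nat.card (MulAction.orbit (ConjAct N) tN) with hmdef
  have hstab : m * 2 ^ r = Nat.card N := by
    haveI : Finite (ConjAct N) := Finite.of_equiv N ConjAct.toConjAct.toEquiv
    haveI : Fintype (ConjAct N) := Fintype.ofFinite _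
    haveI : Fintype (MulAction.orbit (ConjAct N) tN) := Fintype.ofFinite _
    have e := MulAction.card_orbit_mul_card_stabilizer_eq_card_group (ConjAct N) tN
    rw [← Nat.card_eq_fintype_card, ← Nat.card_eq_fintype_card, ← Nat.card_eq_fintype_card] at e
    rw [← Nat.card_congr (ConjAct.toConjAct (G := N)).toEquiv.symm, ← e, hmdef]
    congr 1
    rw [← hP]
    refine Nat.card_eq_of_bijective (fun q : P => (⟨ConjAct.toConjAct ⟨q, Subgroup.le_normalizer q.2⟩,
      Subtype.ext (mul_inv_eq_iff_eq_mul.2 (mem_centralizer_singleton_iff.1 q.2))⟩ :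
        MulAction.stabilizer (ConjAct N) tN)) ⟨?_, ?_⟩
    · intro a b e
      exact Subtype.ext (congrArg (fun z => ((ConjAct.ofConjAct z.1 : N) : X)) e :)
    · rintro ⟨g, hg⟩
      obtain ⟨g, rfl⟩ : ∃ g' : N, ConjAct.toConjAct g' = g := ⟨ConjAct.ofConjAct g, rfl⟩
      refine ⟨⟨(g : X), mem_centralizer_singleton_iff.2 ?_⟩, rfl⟩
      exact mul_inv_eq_iff_eq_mul.1 (congrArg Subtype.val (MulAction.mem_stabilizer_iff.1 hg))
  -- so its number is `1` or all
  have hcop : Nat.Coprime m r := by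
    rw [Nat.coprime_comm, p.prime.coprime_iff_not_dvd]
    intro hdvd
    haveI := Fact.mk p.prime
    obtain ⟨g, hg⟩ := exists_prime_orderOf_dvd_card' (G := N) r (hstab ▸ hdvd.mul_right _)
    exact h.not_normalize p (by rw [← hg, Subgroup.orderOf_coe]) hP g.2
  have hdiv : 2 ^ k - 1 ∣ 2 ^ r - 1 := by
    have h1 : m * 2 ^ r ∣ Nat.card J * r * 2 ^ r := by
      rw [hstab, ← h.card_zeros p, ← h.card_eq]
      exact Subgroup.card_subgroup_dvd_card N
    have h2 := hcop.dvd_of_dvd_mul_right (Nat.dvd_of_mul_dvd_mul_right (by positivity) h1)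
    have hJ := h.card_J
    rwa [show Nat.card J = 2 ^ r - 1 by omega, show m = 2 ^ k - 1 by omega] at h2
  have hkr : k ∣ r := by
    have h1 := Nat.gcd_eq_left hdiv
    rw [Nat.pow_sub_one_gcd_pow_sub_one] at h1
    have h2 : 2 ^ Nat.gcd k r = 2 ^ k := by
      have := Nat.one_le_two_pow (n := k)
      have := Nat.one_le_two_pow (n := Nat.gcd k r)
      omega
    exact Nat.gcd_eq_left_iff_dvd.1 (Nat.pow_right_injective le_rfl h2)
  rcases (Nat.dvd_prime p.prime).1 hkr with rfl | rfl
  · by_contra hne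
    have hle : 3 ≤ Nat.card Z := by
      haveI : Fintype Z := Fintype.ofFinite Z
      have hs1 : s ≠ 1 := fun e => by rw [e, orderOf_one] at hs; omega
      have ht1 : t ≠ 1 := fun e => by rw [e, orderOf_one] at ht; omega
      rw [Nat.card_eq_fintype_card]
      have hcard3 : ({1, ⟨s, htZ s hs hst⟩, ⟨t, htZ t ht rfl⟩} : Finset Z).card = 3 := by
        simp [Subtype.ext_iff, hne, Ne.symm hs1, Ne.symm ht1]
      exact hcard3 ▸ Finset.card_le_univ _
    rw [hk] at hle
    omega
  · have hZP : Z = P := Subgroup.eq_of_le_of_card_ge (fun u hu => ((hZ u).1 hu).2.1)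
      (by rw [hk, hP])
    exact (h.not_abelian hP fun a ha b hb => ((hZ a).1 (hZP ▸ ha)).2.2 b hb).elim

/-- The degree of a pair is three. -/
theorem pair_eq_three : r = 3 := by
  classical
  haveI : Fact (Nat.Prime 2) := ⟨Nat.prime_two⟩
  haveI := Fact.mk p.prime
  set G := MulAction.stabilizer X d with hG
  -- the order of the stabiliser of `d`
  have hGcard : Nat.card G = 2 ^ r * r := by
    rw [← h.card, show Nat.card V * r = Nat.card (V × zpowers x) by
      rw [Nat.card_prod, Nat.card_zpowers, p.ord]]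
    have hsec : ∀ v : V, ∃ g : X, c g = v ∧ g • d = d := fun v => by
      obtain ⟨g₀, hg₀⟩ := h.onto v
      obtain ⟨j, hj, hjd⟩ := h.trans d (g₀⁻¹ • d) p.dne
        (fun e => p.dne ((smul_eq_zero_iff_eq g₀⁻¹).1 e))
      exact ⟨g₀ * j, by rw [h.cocycle, h.zero j hj, smul_zero, add_zero, hg₀],
        by rw [mul_smul, hjd, smul_inv_smul]⟩
    choose sec hsc hsd using hsec
    symm
    refine Nat.card_eq_of_bijective (fun q : V × zpowers x => (⟨sec q.1 * q.2,
      MulAction.mem_stabilizer_iff.2 (by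
        rw [mul_smul, (h.mem_zpowers_fix p q.2.2).2, hsd])⟩ : G)) ⟨?_, ?_⟩
    · rintro ⟨v, a⟩ ⟨w, b⟩ e
      have e' : sec v * a = sec w * b := congrArg Subtype.val e
      have h1 := congrArg c e'
      rw [h.cocycle, h.cocycle, (h.mem_zpowers_fix p a.2).1, (h.mem_zpowers_fix p b.2).1, smul_zero,
        smul_zero, add_zero, add_zero, hsc, hsc] at h1
      subst h1
      exact Prod.ext rfl (Subtype.ext (mul_left_cancel e'))
    · rintro ⟨g, hg⟩
      refine ⟨(c g, ⟨(sec (c g))⁻¹ * g, h.mem_zpowers_of_fix p (h.eq_iff.1 (hsc _)) ?_⟩),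
        Subtype.ext (mul_inv_cancel_left _ g)⟩
      rw [mul_smul, MulAction.mem_stabilizer_iff.1 hg, inv_smul_eq_iff, hsd]
  have hxG : x ∈ G := p.xd
  have hyG : y ∈ G := p.yd
  set x₁ : G := ⟨x, hxG⟩ with hx₁
  have hord : orderOf x₁ = r := by rw [← Subgroup.orderOf_coe]; exact p.ord
  have hNx : Nat.card (Subgroup.normalizer (Subgroup.zpowers x₁ : Set G)) ≤ 2 * r := by
    set M := Subgroup.normalizer (Subgroup.zpowers x₁ : Set G) with hM
    have key : ∀ g : M, ∃ a : zpowers x, ∃ b : Bool, ((g : G) : X) = cond b y 1 * a := by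
      intro g
      have hgd : ((g : G) : X) • d = d := (g : G).2
      set g' : X := ((g : G) : X) with hg'
      obtain ⟨k, hk⟩ := mem_zpowers_iff.1
        ((mem_normalizer_iff.1 g.2 x₁).1 (mem_zpowers x₁))
      have hk' : x ^ k = g' * x * g'⁻¹ := congrArg Subtype.val hk
      have hfix : x ^ k • c g' = c g' := by
        have e : x ^ k * g' = g' * x := by rw [hk', inv_mul_cancel_right]
        have e2 : c (x ^ k * g') = c (g' * x) := by rw [e]
        rw [h.cocycle, h.cocycle, (h.mem_zpowers_fix p (zpow_mem_zpowers x k)).1, p.cx, smul_zero,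
          add_zero, zero_add] at e2
        exact e2
      have hxk : x ∈ zpowers (x ^ k) := by
        rw [Subgroup.eq_of_le_of_card_ge (zpowers_le.2 (zpow_mem_zpowers x k)) (by
          rw [Nat.card_zpowers, Nat.card_zpowers, hk',
            show g' * x * g'⁻¹ = MulAut.conj g' x from rfl, MulEquiv.orderOf_eq])]
        exact mem_zpowers x
      have hxc : x • c g' = c g' := MulAction.mem_stabilizer_iff.1
        ((zpowers_le.2 (MulAction.mem_stabilizer_iff.2 hfix :
          x ^ k ∈ MulAction.stabilizer X (c g'))) hxk)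
      rcases p.fixed _ hxc with e | e
      · exact ⟨⟨g', h.mem_zpowers_of_fix p e hgd⟩, false, (one_mul _).symm⟩
      · refine ⟨⟨y⁻¹ * g', h.mem_zpowers_of_fix p (h.eq_iff.1 (p.cy.trans e.symm)) ?_⟩, true,
          (mul_inv_cancel_left y g').symm⟩
        rw [mul_smul, hgd, inv_smul_eq_iff, p.yd]
    choose fa fb hf using key
    have hinj : Function.Injective (fun g : M => (fb g, fa g)) := fun g g' e => by
      obtain ⟨e1, e2⟩ := Prod.mk.inj e
      exact Subtype.ext (Subtype.ext (by rw [hf, hf, e1, e2]))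
    have := Nat.card_le_card_of_injective _ hinj
    rwa [Nat.card_prod, Nat.card_zpowers, p.ord, Nat.card_eq_fintype_card (α := Bool), Fintype.card_bool] at this
  obtain ⟨D, hDn, hD⟩ := exists_normal_half p.prime
    (fun e => absurd p.odd_r (by rw [e]; decide)) hGcard hord hNx (fun P hP => by
      obtain ⟨b, hb⟩ := P.isPGroup'.exists_card_eq
      have hPc : Nat.card (P : Subgroup G) = 2 ^ r := by
        rw [P.card_eq_multiplicity, hGcard, Nat.factorization_mul (by positivity) p.prime.ne_zero,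
          Finsupp.add_apply, Nat.Prime.factorization_pow Nat.prime_two, Finsupp.single_eq_same,
          p.prime.factorization, Finsupp.single_eq_of_ne (fun e => absurd p.odd_r (by
            rw [← e]; decide)), add_zero]
      refine h.not_normalize_x p (P := (P : Subgroup G).map G.subtype)
        (by rw [Subgroup.card_map_of_injective G.subtype_injective, hPc]) ?_
      exact Subgroup.le_normalizer_map G.subtype ⟨x₁, hP, rfl⟩)
  -- work in `X`
  set D' := D.map G.subtype with hD'
  have hD'c : Nat.card D' * 2 = 2 ^ r := by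
    rw [hD', Subgroup.card_map_of_injective G.subtype_injective, hD]
  have hD2 : IsPGroup 2 D' := by
    refine IsPGroup.of_card (n := r - 1) (Nat.eq_of_mul_eq_mul_right (Nat.zero_lt_two) ?_)
    rw [hD'c, ← pow_succ, Nat.sub_add_cancel p.prime.one_le]
  have hDconj : ∀ g ∈ G, ∀ a ∈ D', g * a * g⁻¹ ∈ D' := by
    rintro g hg _ ⟨a, ha, rfl⟩
    exact ⟨⟨g, hg⟩ * a * ⟨g, hg⟩⁻¹, hDn.conj_mem a ha ⟨g, hg⟩, rfl⟩
  have hyD : y ∉ D' := fun hy => by
    have h1 : y * (x * y * x⁻¹) ∈ D' := mul_mem hy (hDconj x hxG y hy)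
    have e : y * (x * y * x⁻¹) = x⁻¹ * x⁻¹ := by
      calc y * (x * y * x⁻¹) = (y * x * y⁻¹) * (y * y) * x⁻¹ := by group
        _ = _ := by rw [h.pair_yy p, mul_one, p.inv]
    rw [e] at h1
    have h2 : orderOf (x⁻¹ * x⁻¹) = r := by
      rw [← pow_two, Nat.Coprime.orderOf_pow, orderOf_inv, p.ord]
      rw [orderOf_inv, p.ord]; exact Nat.coprime_two_right.2 p.odd_r
    have h3 := Subgroup.orderOf_dvd_natCard D' h1
    rw [h2] at h3
    have h4 : r ∣ 2 ^ r := hD'c ▸ h3.mul_right 2
    have := (Nat.prime_dvd_prime_iff_eq p.prime Nat.prime_two).1 (p.prime.dvd_of_dvd_pow h4)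
    exact absurd p.odd_r (by rw [this]; decide)
  -- the central elementary subgroup of `D`
  let Ω : Subgroup X :=
    { carrier := {w | w * w = 1 ∧ w ∈ D' ∧ ∀ q ∈ D', Commute w q}
      one_mem' := ⟨one_mul 1, one_mem D', fun q _ => Commute.one_left q⟩
      mul_mem' := fun {a b} ha hb => ⟨by
          rw [Commute.mul_mul_mul_comm (ha.2.2 b hb.2.1).symm, ha.1, hb.1, mul_one],
        mul_mem ha.2.1 hb.2.1, fun q hq => (ha.2.2 q hq).mul_left (hb.2.2 q hq)⟩
      inv_mem' := fun {a} ha => by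
        rw [inv_eq_of_mul_eq_one_right ha.1]; exact ha }
  have hΩ : ∀ w, w ∈ Ω ↔ w * w = 1 ∧ w ∈ D' ∧ ∀ q ∈ D', Commute w q := fun w => Iff.rfl
  have hΩn : ∀ g ∈ G, ∀ w ∈ Ω, g * w * g⁻¹ ∈ Ω := by
    intro g hg w hw
    obtain ⟨h1, h2, h3⟩ := (hΩ w).1 hw
    refine (hΩ _).2 ⟨?_, hDconj g hg w h2, fun q hq => ?_⟩
    · calc g * w * g⁻¹ * (g * w * g⁻¹) = g * (w * w) * g⁻¹ := by group
        _ = 1 := by rw [h1, mul_one, mul_inv_cancel]
    · have hq' : g⁻¹ * q * g ∈ D' := by
        have := hDconj g⁻¹ (inv_mem hg) q hq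
        rwa [inv_inv] at this
      have := (h3 _ hq').map (MulAut.conj g)
      simpa [mul_assoc] using this
  have hΩcard : 2 ≤ Nat.card Ω := by
    haveI : Nontrivial D' := Finite.one_lt_card_iff_nontrivial.1 (by
      have : 2 ^ 2 ≤ 2 ^ r := Nat.pow_le_pow_right (by norm_num) h.two_le
      omega)
    haveI := hD2.center_nontrivial
    obtain ⟨k, hk, hcardZ⟩ := (hD2.to_subgroup (center D')).nontrivial_iff_card.1 inferInstance
    obtain ⟨w, hw⟩ := exists_prime_orderOf_dvd_card' (G := center D') 2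
      (hcardZ ▸ dvd_pow_self 2 (by omega))
    have hwΩ : ((w : D') : X) ∈ Ω := (hΩ _).2 ⟨by
      rw [← pow_two, ← Subgroup.coe_pow, ← Subgroup.coe_pow, ← hw, pow_orderOf_eq_one]; rfl,
      (w : D').2, fun q hq => (congrArg Subtype.val (mem_center_iff.1 w.2 ⟨q, hq⟩)).symm⟩
    have hw1 : ((w : D') : X) ≠ 1 := fun e => by
      have : w = 1 := Subtype.ext (Subtype.ext e)
      rw [this, orderOf_one] at hw
      omega
    haveI : Nontrivial Ω := ⟨⟨_, hwΩ⟩, 1, fun e => hw1 (congrArg Subtype.val e)⟩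
    exact Finite.one_lt_card
  -- the fixed points of `y`
  set C := Ω ⊓ centralizer ({y} : Set X) with hC
  have hC2 : Nat.card C ≤ 2 := by
    set P₀ := D' ⊔ zpowers y with hP₀
    have hPy : ∀ w ∈ C, w ≠ 1 → orderOf w = 2 ∧ centralizer ({w} : Set X) = P₀ := by
      intro w hw hw1
      obtain ⟨hwΩ, hwy⟩ := mem_inf.1 hw
      obtain ⟨h1, -, h3⟩ := (hΩ w).1 hwΩ
      have hord : orderOf w = 2 := orderOf_eq_prime (by rw [pow_two, h1]) hw1
      refine ⟨hord, (Subgroup.eq_of_le_of_card_ge ?_ ?_).symm⟩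
      · rw [hP₀, sup_le_iff, zpowers_le]
        exact ⟨fun q hq => mem_centralizer_singleton_iff.2 (h3 q hq).symm,
          mem_centralizer_singleton_iff.2 (mem_centralizer_singleton_iff.1 hwy).symm⟩
      · rw [h.card_centralizer p hord, ← hD'c]
        obtain ⟨e, he⟩ := Subgroup.card_dvd_of_le (le_sup_left : D' ≤ P₀)
        rw [he]
        refine Nat.mul_le_mul_left _ ?_
        rcases e with _ | _ | e
        · have : 0 < Nat.card P₀ := Nat.card_pos
          rw [he, mul_zero] at this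
          exact absurd this (lt_irrefl 0)
        · exfalso
          rw [zero_add, mul_one] at he
          exact hyD ((Subgroup.eq_of_le_of_card_ge (le_sup_left : D' ≤ P₀) he.le).symm ▸
            Subgroup.mem_sup_right (mem_zpowers y))
        · omega
    by_contra hgt
    push Not at hgt
    haveI : Fintype C := Fintype.ofFinite C
    rw [Nat.card_eq_fintype_card, Fintype.two_lt_card_iff] at hgt
    obtain ⟨a, b, e, hab, hae, hbe⟩ := hgt
    have key : ∀ u w : C, u ≠ 1 → w ≠ 1 → u = w := fun u w hu hw => by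
      have hu' : (u : X) ≠ 1 := fun e => hu (Subtype.ext e)
      have hw' : (w : X) ≠ 1 := fun e => hw (Subtype.ext e)
      exact Subtype.ext (h.central_unique p (hPy u u.2 hu').1 (hPy w w.2 hw').1
        ((hPy u u.2 hu').2.trans (hPy w w.2 hw').2.symm))
    by_cases ha : a = 1
    · exact hbe (key b e (fun hb => hab (ha.trans hb.symm)) (fun he => hae (ha.trans he.symm)))
    by_cases hb : b = 1
    · exact hae (key a e ha (fun he => hbe (hb.trans he.symm)))
    exact hab (key a b ha hb)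
  have hΩ4 : Nat.card Ω ≤ 4 := by
    have hyy := h.pair_yy p
    let f : Ω →* X :=
      { toFun := fun w => (w : X) * (y * w * y⁻¹)
        map_one' := by simp
        map_mul' := fun a b => by
          have hb : y * (a : X) * y⁻¹ ∈ Ω := hΩn y hyG a a.2
          have hc : Commute (b : X) (y * (a : X) * y⁻¹) :=
            ((hΩ _).1 b.2).2.2 _ ((hΩ _).1 hb).2.1
          calc ((a * b : Ω) : X) * (y * (a * b : Ω) * y⁻¹)
              = (a : X) * ((b : X) * (y * (a : X) * y⁻¹)) * (y * (b : X) * y⁻¹) := by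
                rw [Subgroup.coe_mul]; group
            _ = (a : X) * (y * (a : X) * y⁻¹) * ((b : X) * (y * (b : X) * y⁻¹)) := by
                rw [hc.eq]; group }
    have hfa : ∀ w : Ω, f w = (w : X) * (y * w * y⁻¹) := fun w => rfl
    have hker : Nat.card f.ker ≤ Nat.card C := by
      refine Nat.card_le_card_of_injective (fun w : f.ker => (⟨((w : Ω) : X), mem_inf.2
        ⟨(w : Ω).2, mem_centralizer_singleton_iff.2 ?_⟩⟩ : C)) fun a b e =>
          Subtype.ext (Subtype.ext (congrArg Subtype.val e :))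
      have h1 : ((w : Ω) : X) * (y * (w : Ω) * y⁻¹) = 1 := (MonoidHom.mem_ker).1 w.2
      have h2 : ((w : Ω) : X) * ((w : Ω) : X) = 1 := ((hΩ _).1 (w : Ω).2).1
      have h3 : y * ((w : Ω) : X) * y⁻¹ = (w : Ω) := mul_left_cancel (h1.trans h2.symm)
      exact (mul_inv_eq_iff_eq_mul.1 h3).symm
    have hrange : Nat.card f.range ≤ Nat.card C := by
      refine Subgroup.card_le_of_le ?_
      rintro _ ⟨w, rfl⟩
      have hw' := hΩn y hyG w w.2
      refine mem_inf.2 ⟨mul_mem w.2 hw', mem_centralizer_singleton_iff.2 ?_⟩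
      rw [hfa]
      have hc : Commute (y * (w : X) * y⁻¹) (w : X) :=
        ((hΩ _).1 hw').2.2 _ ((hΩ _).1 w.2).2.1
      calc (w : X) * (y * w * y⁻¹) * y = (w : X) * y * w := by group
        _ = (y * y) * ((w : X) * y * w) := by rw [hyy, one_mul]
        _ = y * ((y * (w : X) * y⁻¹) * (y * y) * w) := by group
        _ = y * ((w : X) * (y * w * y⁻¹)) := by rw [hyy, mul_one, hc.eq]
    have e := f.ker.card_mul_index
    rw [Subgroup.index_ker] at e
    calc Nat.card Ω = Nat.card f.ker * Nat.card f.range := e.symm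
      _ ≤ 2 * 2 := Nat.mul_le_mul (hker.trans hC2) (hrange.trans hC2)
  -- `x` fixes only the identity in `Ω`
  letI : MulAction (zpowers x) Ω :=
    { smul := fun a w => ⟨(a : X) * w * (a : X)⁻¹,
        hΩn a ((zpowers_le.2 hxG) a.2) w w.2⟩
      one_smul := fun w => Subtype.ext (by show ((1 : zpowers x) : X) * w * _ = _; simp)
      mul_smul := fun a b w => Subtype.ext (by
        show ((a * b : zpowers x) : X) * w * ((a * b : zpowers x) : X)⁻¹ =
          (a : X) * ((b : X) * w * (b : X)⁻¹) * (a : X)⁻¹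
        rw [Subgroup.coe_mul]; group) }
  have hz : IsPGroup r (zpowers x) := IsPGroup.of_card (n := 1) (by
    rw [Nat.card_zpowers, p.ord, pow_one])
  have hmod := hz.card_modEq_card_fixedPoints Ω
  haveI : Unique (MulAction.fixedPoints (zpowers x) Ω) :=
    ⟨⟨⟨1, fun a => Subtype.ext (by show (a : X) * 1 * (a : X)⁻¹ = 1; simp)⟩⟩, fun w => Subtype.ext (by
      have hwx : x * ((w : Ω) : X) * x⁻¹ = (w : Ω) := congrArg Subtype.val (w.2 ⟨x, mem_zpowers x⟩)
      by_contra hne
      have hw1 : ((w : Ω) : X) ≠ 1 := fun e => hne (Subtype.ext e)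
      have hord : orderOf ((w : Ω) : X) = 2 :=
        orderOf_eq_prime (by rw [pow_two, ((hΩ _).1 (w : Ω).2).1]) hw1
      have hcomm : x * ((w : Ω) : X) = ((w : Ω) : X) * x := mul_inv_eq_iff_eq_mul.1 hwx
      rcases p.fixed _ (h.smul_eq_of_comm p.cx hcomm) with e | e
      · exact h.ne_zero_of_involution hord e
      · exact h.not_comm p e hcomm.symm)⟩
  rw [Nat.card_unique (α := MulAction.fixedPoints (zpowers x) Ω)] at hmod
  have hdvd := (Nat.modEq_iff_dvd' (by omega : 1 ≤ Nat.card Ω)).1 hmod.symm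
  have hle := Nat.le_of_dvd (by omega) hdvd
  have h3 := p.prime.two_le
  obtain ⟨s, hs⟩ := p.odd_r
  omega

end AffineSetting

namespace AffineSetting

variable {X : Type u} {V : Type v} [Group X] [AddCommGroup V] [DistribMulAction X V]
  {c : X → V} {J : Subgroup X} {r : ℕ} (h : AffineSetting c J r)
variable [Finite X] [Finite V] [FaithfulSMul X V]

include h

/-- The affine group without translations has degree three. -/
theorem eq_three : r = 3 := by
  obtain ⟨x, y, d, p⟩ := h.exists_pair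
  exact h.pair_eq_three p

end AffineSetting

end CfsgLib.LocalEven.OnePointFront.Nonfull
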