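import Cfsg.Agent.Lib.LocalEven.TIEndgame.AffineTwo
import Cfsg.Agent.Lib.LocalEven.StrongCore.Frobenius

/-!
# Affine groups with a cyclic transitive subgroup at the origin

`X` acts on `V` of order `2 ^ r` linearly and faithfully, with a cocycle `c` onto `V` whose zero
set has odd order and normalises the cyclic group `J`, transitive on the non-zero vectors.
-/

set_option autoImplicit false
set_option linter.style.haveILetI false
set_option linter.unusedSectionVars false

namespace CfsgLib.LocalEven.OnePointFront.Nonfull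

open CfsgLib.LocalEven.TIEndgame CfsgLib.LocalEvenB.OddTransitive

universe u v

/-- The hypotheses on the affine group. -/
structure AffineSetting {X : Type u} {V : Type v} [Group X] [AddCommGroup V] [DistribMulAction X V]
    (c : X → V) (J : Subgroup X) (r : ℕ) : Prop where
  cocycle : ∀ g k : X, c (g * k) = c g + g • c k
  two : ∀ v : V, v + v = 0
  card : Nat.card V = 2 ^ r
  two_le : 2 ≤ r
  onto : ∀ v : V, ∃ g, c g = v
  zero : ∀ j ∈ J, c j = 0
  trans : ∀ v w : V, v ≠ 0 → w ≠ 0 → ∃ j ∈ J, j • v = w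
  norm : ∀ g : X, c g = 0 → ∀ j ∈ J, g * j * g⁻¹ ∈ J
  odd : ∀ g : X, c g = 0 → Odd (orderOf g)
  cyclic : IsCyclic J

namespace AffineSetting

variable {X : Type u} {V : Type v} [Group X] [AddCommGroup V] [DistribMulAction X V]
  {c : X → V} {J : Subgroup X} {r : ℕ} (h : AffineSetting c J r)

include h

theorem map_one : c 1 = 0 := AffineTwo.map_one c h.cocycle

theorem neg_eq (v : V) : -v = v := neg_eq_of_add_eq_zero_left (h.two v)

theorem map_inv (g : X) : c g⁻¹ = g⁻¹ • c g := by
  rw [AffineTwo.map_inv c h.cocycle, h.neg_eq]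

/-- The elements fixing the origin. -/
def zeros : Subgroup X where
  carrier := {g | c g = 0}
  one_mem' := h.map_one
  mul_mem' {a b} ha hb := by
    simp only [Set.mem_setOf_eq] at ha hb ⊢
    rw [h.cocycle, ha, hb, smul_zero, add_zero]
  inv_mem' {a} ha := by
    simp only [Set.mem_setOf_eq] at ha ⊢
    rw [h.map_inv, ha, smul_zero]

theorem mem_zeros {g : X} : g ∈ h.zeros ↔ c g = 0 := Iff.rfl

theorem eq_iff {a b : X} : c a = c b ↔ c (a⁻¹ * b) = 0 := by
  rw [h.cocycle, h.map_inv, ← smul_add, smul_eq_zero_iff_eq, add_eq_zero_iff_eq_neg, h.neg_eq]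

theorem exists_ne : ∃ d : V, d ≠ 0 := by
  haveI : Finite V := Nat.finite_of_card_ne_zero (by rw [h.card]; positivity)
  haveI : Nontrivial V := Finite.one_lt_card_iff_nontrivial.1 (by
    rw [h.card]; exact Nat.one_lt_two_pow (by have := h.two_le; omega))
  exact _root_.exists_ne 0

/-- An involution has no fixed point. -/
theorem no_fixed {t : X} (ht : orderOf t = 2) (v : V) : c t + t • v ≠ v := by
  intro hv
  obtain ⟨g, rfl⟩ := h.onto v
  have h1 : c (g⁻¹ * t * g) = 0 := by
    rw [mul_assoc, ← h.eq_iff, h.cocycle, hv]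
  have h2 := h.odd _ h1
  rw [show g⁻¹ * t * g = MulAut.conj g⁻¹ t by simp, MulEquiv.orderOf_eq, ht] at h2
  exact absurd h2 (by decide)

theorem ne_zero_of_involution {t : X} (ht : orderOf t = 2) : c t ≠ 0 := fun e => by
  have := h.odd t e
  rw [ht] at this
  exact absurd this (by decide)

theorem smul_eq_self_of_involution {t : X} (ht : orderOf t = 2) : t • c t = c t := by
  have htt : t * t = 1 := by rw [← pow_two, ← ht, pow_orderOf_eq_one]
  have e := h.cocycle t t
  rw [htt, h.map_one] at e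
  calc t • c t = -c t := eq_neg_of_add_eq_zero_right e.symm
    _ = c t := h.neg_eq _

variable [Finite X] [Finite V] [FaithfulSMul X V]

/-- The cyclic group is regular on the non-zero vectors. -/
theorem free {j : X} (hj : j ∈ J) {v : V} (hv : v ≠ 0) (e : j • v = v) : j = 1 := by
  haveI := h.cyclic
  letI := IsCyclic.commGroup (α := J)
  refine FaithfulSMul.eq_of_smul_eq_smul (α := V) fun w => ?_
  rw [one_smul]
  by_cases hw : w = 0
  · rw [hw, smul_zero]
  obtain ⟨k, hk, rfl⟩ := h.trans v w hv hw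
  have hc : j * k = k * j := congrArg Subtype.val (mul_comm (⟨j, hj⟩ : J) ⟨k, hk⟩)
  rw [smul_smul, hc, mul_smul, e]

theorem card_J : Nat.card J + 1 = 2 ^ r := by
  obtain ⟨d, hd⟩ := h.exists_ne
  let f : Option J → V := fun o => o.elim 0 fun j => (j : X) • d
  have hf : Function.Bijective f := by
    refine ⟨?_, fun w => ?_⟩
    · rintro (_ | a) (_ | b) e
      · rfl
      · exact absurd ((smul_eq_zero_iff_eq (b : X)).1 e.symm) hd
      · exact absurd ((smul_eq_zero_iff_eq (a : X)).1 e) hd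
      · refine congrArg some (Subtype.ext (inv_mul_eq_one.1 ?_))
        refine h.free (mul_mem (inv_mem a.2) b.2) hd ?_
        rw [mul_smul, show (b : X) • d = (a : X) • d from e.symm, inv_smul_smul]
    · by_cases hw : w = 0
      · exact ⟨none, hw.symm⟩
      · obtain ⟨j, hj, e⟩ := h.trans d w hd hw
        exact ⟨some ⟨j, hj⟩, e⟩
  rw [← h.card, ← Nat.card_eq_of_bijective f hf, Finite.card_option]

/-- An element fixing the origin acts on the cyclic group as a power of squaring. -/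
theorem exists_pow {g : X} (hg : c g = 0) :
    ∃ i < r, ∀ j ∈ J, g * j * g⁻¹ = j ^ 2 ^ i := by
  classical
  haveI : Fact (Nat.Prime 2) := ⟨Nat.prime_two⟩
  obtain ⟨d, hd⟩ := h.exists_ne
  have hJle : J ≤ h.zeros := fun j hj => h.zero j hj
  haveI : FaithfulSMul h.zeros V :=
    ⟨fun {a b} e => Subtype.ext (FaithfulSMul.eq_of_smul_eq_smul (α := V) fun w => e w)⟩
  have hodd : Odd (Nat.card h.zeros) := by
    rw [← Nat.not_even_iff_odd, even_iff_two_dvd]
    intro hdvd
    obtain ⟨t, ht⟩ := exists_prime_orderOf_dvd_card' (G := h.zeros) 2 hdvd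
    rw [← Subgroup.orderOf_coe] at ht
    exact h.ne_zero_of_involution ht t.2
  have hsolv : Group.IsSolvable h.zeros := CfsgLib.OddOrder.Final.oddSolvable h.zeros hodd
  set F := J.subgroupOf h.zeros with hF
  have hFn : F.Normal := ⟨fun a ha b => Subgroup.mem_subgroupOf.2 (by
    simpa using h.norm b b.2 a (Subgroup.mem_subgroupOf.1 ha))⟩
  haveI := hFn
  haveI : Group.IsNilpotent F := by
    haveI := h.cyclic
    haveI : IsCyclic F := isCyclic_of_surjective (Subgroup.subgroupOfEquivOfLe hJle).symm.toMonoidHom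
      (Subgroup.subgroupOfEquivOfLe hJle).symm.surjective
    letI := IsCyclic.commGroup (α := F)
    exact CommGroup.isNilpotent
  have hfit : F ≤ Cfsg.fittingSubgroup h.zeros :=
    CfsgLib.Solvable.Cores.le_fittingSubgroup inferInstance
  have htr : PMTransitive h.zeros V := PMTransitive.of_transitive fun x y hx hy => by
    obtain ⟨j, hj, e⟩ := h.trans x y hx hy
    exact ⟨⟨j, hJle hj⟩, e⟩
  obtain ⟨i, hi, hconj⟩ := StrongCore.exists_conj_eq_pow hodd hsolv
    (fun e => by rw [two_nsmul]; exact h.two e) htr h.card hd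
    (fun x hx => by
      obtain ⟨j, hj, e⟩ := h.trans d x hd hx
      exact ⟨⟨j, hJle hj⟩, hfit (Subgroup.mem_subgroupOf.2 hj), e⟩) ⟨g, hg⟩
  refine ⟨i, hi, fun j hj => ?_⟩
  simpa using congrArg Subtype.val (hconj ⟨j, hJle hj⟩ (hfit (Subgroup.mem_subgroupOf.2 hj)))

/-- An element fixing the origin and a non-zero vector and centralising `J` is trivial. -/
theorem eq_one_of_comm {g : X} {d : V} (hd : d ≠ 0) (hgd : g • d = d)
    (hcomm : ∀ j ∈ J, g * j = j * g) : g = 1 := by
  refine FaithfulSMul.eq_of_smul_eq_smul (α := V) fun w => ?_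
  rw [one_smul]
  by_cases hw : w = 0
  · rw [hw, smul_zero]
  obtain ⟨j, hj, rfl⟩ := h.trans d w hd hw
  rw [smul_smul, hcomm j hj, mul_smul, hgd]

/-- Two elements fixing the origin and a non-zero vector with the same action on `J` agree. -/
theorem eq_of_pow {a b : X} {d : V} (hd : d ≠ 0) (had : a • d = d) (hbd : b • d = d) {i : ℕ}
    (ha : ∀ j ∈ J, a * j * a⁻¹ = j ^ 2 ^ i) (hb : ∀ j ∈ J, b * j * b⁻¹ = j ^ 2 ^ i) : a = b := by
  have h1 : a⁻¹ * b = 1 := by
    refine h.eq_one_of_comm hd ?_ fun j hj => ?_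
    · rw [mul_smul, hbd, inv_smul_eq_iff, had]
    · have e : b * j * b⁻¹ = a * j * a⁻¹ := (hb j hj).trans (ha j hj).symm
      calc a⁻¹ * b * j = a⁻¹ * (b * j * b⁻¹) * b := by group
        _ = j * (a⁻¹ * b) := by rw [e]; group
  exact inv_mul_eq_one.1 h1

/-- No non-trivial element fixing the origin and a non-zero vector is inverted at the origin. -/
theorem not_inverted {x y : X} (hx : c x = 0) (hy : c y = 0) (hinv : y * x * y⁻¹ = x⁻¹) {d : V}
    (hd : d ≠ 0) (hxd : x • d = d) : x = 1 := by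
  obtain ⟨a, -, ha⟩ := h.exists_pow hx
  obtain ⟨b, -, hb⟩ := h.exists_pow hy
  have hxx : x * x = 1 := by
    refine h.eq_one_of_comm hd (by rw [mul_smul, hxd, hxd]) fun j hj => ?_
    -- `x⁻¹ = y x y⁻¹` acts on `J` as `x` does
    have hb' : y * (y⁻¹ * j * y) * y⁻¹ = j := by group
    have hjy : y⁻¹ * j * y ∈ J := by
      have := h.norm y⁻¹ (h.zeros.inv_mem hy) j hj
      rwa [inv_inv] at this
    have h1 : x⁻¹ * j * x = j ^ 2 ^ a := by
      calc x⁻¹ * j * x = (y * x * y⁻¹) * j * (y * x * y⁻¹)⁻¹ := by rw [hinv, inv_inv]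
        _ = y * (x * (y⁻¹ * j * y) * x⁻¹) * y⁻¹ := by group
        _ = j ^ 2 ^ a := by rw [ha _ hjy, ← conj_pow, hb']
    have h2 : x⁻¹ * j * x = x * j * x⁻¹ := h1.trans (ha j hj).symm
    calc x * x * j = x * (x * j * x⁻¹) * x := by group
      _ = x * (x⁻¹ * j * x) * x := by rw [h2]
      _ = j * (x * x) := by group
  obtain ⟨k, hk⟩ := h.odd x hx
  have h1 := pow_orderOf_eq_one x
  rwa [hk, pow_succ, pow_mul, pow_two, hxx, one_pow, one_mul] at h1

/-- An element fixing the origin fixes the images of the origin under its centraliser. -/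
theorem smul_eq_of_comm {x g : X} (hx : c x = 0) (hxg : x * g = g * x) : x • c g = c g := by
  have e : c (x * g) = c (g * x) := by rw [hxg]
  rw [h.cocycle, h.cocycle, hx, smul_zero, add_zero, zero_add] at e
  exact e

/-- An element inverting `x` moves the origin to a fixed vector of `x`. -/
theorem smul_eq_of_inv {x y : X} (hx : c x = 0) (hinv : y * x * y⁻¹ = x⁻¹) : x • c y = c y := by
  have h1 : y * x = x⁻¹ * y := mul_inv_eq_iff_eq_mul.1 hinv
  have e : c (y * x) = c (x⁻¹ * y) := by rw [h1]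
  rw [h.cocycle, h.cocycle, hx, smul_zero, add_zero, h.map_inv, hx, smul_zero, zero_add] at e
  exact (eq_inv_smul_iff.1 e)

/-- A `2`-subgroup of order `2 ^ r` is regular on the points. -/
theorem exists_of_card {P : Subgroup X} (hP : Nat.card P = 2 ^ r) :
    (∀ p ∈ P, c p = 0 → p = 1) ∧ ∀ v : V, ∃ p ∈ P, c p = v := by
  have hone : ∀ p ∈ P, c p = 0 → p = 1 := fun p hp hcp => by
    have h1 : orderOf p ∣ 2 ^ r := hP ▸ Subgroup.orderOf_dvd_natCard P hp
    have h2 : Nat.Coprime (orderOf p) (2 ^ r) :=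
      (Nat.coprime_two_right.2 (h.odd p hcp)).pow_right r
    exact orderOf_eq_one_iff.1 (Nat.eq_one_of_dvd_coprimes h2 dvd_rfl h1)
  refine ⟨hone, fun v => ?_⟩
  have hinj : Function.Injective (fun p : P => c (p : X)) := fun p q e =>
    Subtype.ext (inv_mul_eq_one.1 (hone _ (mul_mem (inv_mem p.2) q.2) (h.eq_iff.1 e)))
  obtain ⟨p, hp⟩ := (hinj.bijective_of_nat_card_le (by rw [hP, h.card])).2 v
  exact ⟨p, p.2, hp⟩

theorem card_eq : Nat.card X = Nat.card h.zeros * 2 ^ r := by
  rw [← h.zeros.card_mul_index, Subgroup.index, ← h.card]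
  congr 1
  refine Nat.card_congr (Equiv.ofBijective (Quotient.lift c fun a b hab =>
    h.eq_iff.2 (QuotientGroup.leftRel_apply.1 hab)) ⟨?_, fun v => ?_⟩)
  · rintro ⟨a⟩ ⟨b⟩ e
    exact QuotientGroup.eq.2 (h.eq_iff.1 e)
  · obtain ⟨g, rfl⟩ := h.onto v
    exact ⟨(g : X ⧸ h.zeros), rfl⟩

theorem not_abelian {P : Subgroup X} (hP : Nat.card P = 2 ^ r)
    (hab : ∀ p ∈ P, ∀ q ∈ P, p * q = q * p) : False := by
  haveI : Fact (Nat.Prime 2) := ⟨Nat.prime_two⟩
  obtain ⟨hone, hon⟩ := h.exists_of_card hP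
  obtain ⟨w, hw, hw0⟩ := (IsPGroup.of_card hP).exists_fixed_point_of_prime_dvd_card_of_fixed_point V
    (h.card ▸ dvd_pow_self 2 (by have := h.two_le; omega)) (a := (0 : V))
    (fun n => smul_zero (n : X))
  obtain ⟨p, hp, hpw⟩ := hon w
  refine hw0 ?_
  have hp1 : p = 1 := by
    refine FaithfulSMul.eq_of_smul_eq_smul (α := V) fun z => ?_
    rw [one_smul]
    obtain ⟨s, hs, rfl⟩ := hon z
    have e : c (p * s) = c (s * p) := by rw [hab p hp s hs]
    have hsw : s • w = w := hw ⟨s, hs⟩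
    rw [h.cocycle, h.cocycle, hpw, hsw, add_comm (c s)] at e
    exact add_left_cancel e
  rw [← hpw, hp1, h.map_one]

/-- A normal `2`-subgroup is trivial. -/
theorem normal_two_group_eq_bot {N : Subgroup X} [hN : N.Normal] (hN2 : IsPGroup 2 N) :
    ∀ z ∈ N, z = 1 := by
  haveI : Fact (Nat.Prime 2) := ⟨Nat.prime_two⟩
  intro z hz
  obtain ⟨b, hb, hb0⟩ := hN2.exists_fixed_point_of_prime_dvd_card_of_fixed_point V
    (h.card ▸ dvd_pow_self 2 (by have := h.two_le; omega)) (a := (0 : V))
    (fun n => smul_zero (n : X))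
  refine FaithfulSMul.eq_of_smul_eq_smul (α := V) fun w => ?_
  rw [one_smul]
  by_cases hw : w = 0
  · rw [hw, smul_zero]
  obtain ⟨j, -, rfl⟩ := h.trans b w (Ne.symm hb0) hw
  have h2 := hb ⟨_, hN.conj_mem z hz j⁻¹⟩
  change (j⁻¹ * z * j⁻¹⁻¹) • b = b at h2
  rw [inv_inv, mul_smul, mul_smul, inv_smul_eq_iff] at h2
  exact h2

end AffineSetting

end CfsgLib.LocalEven.OnePointFront.Nonfull
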