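import Cfsg.Agent.Lib.LocalEven.OnePointFront.Nonfull.Curved.Data
import Cfsg.Agent.Lib.LocalEven.OnePointFront.Basic
import Cfsg.Agent.Lib.LocalEven.OnePointFront.FullBasic

/-!
# The choice of the bad involution

With a point `a` and a point group `K` at it fixed, the bad involution fixing `a` is chosen maximal
first for the order of an elementary group of members at a point centralised by it, then for the order
of a 2-subgroup of `K` centralised by it, then for the number of its fixed points.  If the members at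
`a` on its line lie in `R`, then `R` has that maximal order, so `MaxRank` and `MaxPsi` hold; `MaxLine`
holds if in addition no 2-subgroup of `K` centralised by it is larger than `R`.
-/

set_option autoImplicit false
set_option linter.style.haveILetI false
set_option linter.unusedSectionVars false

namespace CfsgLib.LocalEven.OnePointFront.Nonfull

open MulAction CfsgLib.LocalEven.TIEndgame

universe u

variable {G : Type u} {Ω : Type u} [Group G] [Finite G] [MulAction G Ω] [Finite Ω]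
  [FaithfulSMul G Ω] {D : Set G}

/-- An elementary group of members at `c` centralised by `y`. -/
structure MemberGroup (D : Set G) (y : G) (c : Ω) (U : Subgroup G) : Prop where
  sq : ∀ u ∈ U, u * u = 1
  member : ∀ u ∈ U, u ≠ 1 → u ∈ dat D c
  comm : ∀ u ∈ U, Commute y u

/-- `V` is a 2-subgroup of `K` centralised by `y`. -/
structure CentTwo (K : Subgroup G) (y : G) (V : Subgroup G) : Prop where
  two : IsPGroup 2 V
  le : V ≤ K
  comm : ∀ v ∈ V, Commute y v

/-- Bad involutions at `a` centralising `R` centralise no larger 2-subgroup of `K` than `x`. -/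
def MaxPsi (a : Ω) (K R : Subgroup G) (x : G) : Prop :=
  ∀ y : G, IsBad Ω y → y • a = a → (∀ r ∈ R, Commute y r) → ∀ V : Subgroup G, IsPGroup 2 V →
    V ≤ K → (∀ v ∈ V, Commute y v) →
      ∃ W : Subgroup G, IsPGroup 2 W ∧ W ≤ K ∧ (∀ w ∈ W, Commute x w) ∧ Nat.card V ≤ Nat.card W

/-- `x` fixes `a` and is maximal first for the member groups, then for the 2-subgroups of `K`, then
for the fixed points; `U₀` is one of the largest member groups of a bad involution. -/
structure Chosen (D : Set G) (a : Ω) (K : Subgroup G) (x : G) (U₀ : Subgroup G) : Prop where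
  bad : IsBad Ω x
  fix : x • a = a
  group : MemberGroup D x a U₀
  rank : ∀ (y : G) (c : Ω) (U : Subgroup G), IsBad Ω y → MemberGroup D y c U →
    Nat.card U ≤ Nat.card U₀
  psi : ∀ (y : G) (U V : Subgroup G), IsBad Ω y → y • a = a → MemberGroup D y a U →
    Nat.card U = Nat.card U₀ → CentTwo K y V →
      ∃ W : Subgroup G, CentTwo K x W ∧ Nat.card V ≤ Nat.card W
  fixes : ∀ (y : G) (U V : Subgroup G), IsBad Ω y → y • a = a → MemberGroup D y a U →
    Nat.card U = Nat.card U₀ → CentTwo K y V →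
      (∀ W : Subgroup G, CentTwo K x W → Nat.card W ≤ Nat.card V) →
        Nat.card (fixedBy Ω y) ≤ Nat.card (fixedBy Ω x)

theorem MemberGroup.fix (h : ClosedSetting D Ω) {y : G} {c : Ω} {U : Subgroup G}
    (hU : MemberGroup D y c U) {u : G} (hu : u ∈ U) (hu1 : u ≠ 1) : y • c = c :=
  h.toOnePoint.fix_of_commute (hU.member u hu hu1).1 (hU.member u hu hu1).2
    (hU.comm u hu).symm

theorem MemberGroup.conj (h : ClosedSetting D Ω) {y : G} {c : Ω} {U : Subgroup G}
    (hU : MemberGroup D y c U) (g : G) :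
    MemberGroup D (g * y * g⁻¹) (g • c) (U.map (MulAut.conj g).toMonoidHom) where
  sq := by
    rintro _ ⟨u, hu, rfl⟩
    rw [← map_mul, hU.sq u hu, map_one]
  member := by
    rintro _ ⟨u, hu, rfl⟩ hne
    exact h.toOnePoint.conj_mem_dat g (hU.member u hu fun e => hne (by rw [e, map_one]))
  comm := by
    rintro _ ⟨u, hu, rfl⟩
    exact (hU.comm u hu).map (MulAut.conj g).toMonoidHom

theorem memberGroup_bot (y : G) (c : Ω) : MemberGroup D y c (⊥ : Subgroup G) where
  sq u hu := by rw [Subgroup.mem_bot.1 hu, one_mul]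
  member u hu h1 := absurd (Subgroup.mem_bot.1 hu) h1
  comm u hu := by rw [Subgroup.mem_bot.1 hu]; exact Commute.one_right y

theorem centTwo_bot (K : Subgroup G) (y : G) : CentTwo K y ⊥ where
  two := IsPGroup.of_bot
  le := bot_le
  comm v hv := by rw [Subgroup.mem_bot.1 hv]; exact Commute.one_right y

/-- A bad involution at `a` can be chosen maximal. -/
theorem exists_chosen (h : ClosedSetting D Ω) (a : Ω) (K : Subgroup G) (hx : ∃ x : G, IsBad Ω x) :
    ∃ (x : G) (U₀ : Subgroup G), Chosen D a K x U₀ := by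
  let A := {p : G × Subgroup G × Subgroup G //
    IsBad Ω p.1 ∧ p.1 • a = a ∧ MemberGroup D p.1 a p.2.1 ∧ CentTwo K p.1 p.2.2}
  -- every bad involution is conjugate to one fixing `a`
  have hat : ∀ (y : G) (c : Ω) (U : Subgroup G), IsBad Ω y → MemberGroup D y c U →
      ∃ p : A, Nat.card p.1.2.1 = Nat.card U := by
    intro y c U hy hU
    obtain ⟨c', hc', hU'⟩ : ∃ c' : Ω, y • c' = c' ∧ MemberGroup D y c' U := by
      by_cases hbot : U = ⊥
      · obtain ⟨-, p, -, -, hyp, -⟩ := id hy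
        exact ⟨p, hyp, hbot ▸ memberGroup_bot y p⟩
      · obtain ⟨u, hu, hu1⟩ := U.bot_or_exists_ne_one.resolve_left hbot
        exact ⟨c, hU.fix h hu hu1, hU⟩
    obtain ⟨g, hg⟩ := h.exists_move h.covers c' a
    have hfix : (g * y * g⁻¹) • a = a := by
      rw [← hg, mul_smul, inv_smul_smul, mul_smul, hc']
    refine ⟨⟨(g * y * g⁻¹, U.map (MulAut.conj g).toMonoidHom, ⊥), isBad_conj g hy, hfix,
      hg ▸ hU'.conj h g, centTwo_bot K _⟩, ?_⟩
    exact Subgroup.card_map_of_injective (MulAut.conj g).injective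
  haveI : Nonempty A := by
    obtain ⟨x, hb⟩ := hx
    exact ⟨(hat x a ⊥ hb (memberGroup_bot x a)).choose⟩
  obtain ⟨p₀, hmax⟩ := Finite.exists_max fun p : A => Nat.card p.1.2.1
  let B := {p : A // Nat.card p.1.2.1 = Nat.card p₀.1.2.1}
  haveI : Nonempty B := ⟨⟨p₀, rfl⟩⟩
  obtain ⟨p₁, hmax₁⟩ := Finite.exists_max fun p : B => Nat.card p.1.1.2.2
  let C := {p : B // Nat.card p.1.1.2.2 = Nat.card p₁.1.1.2.2}
  haveI : Nonempty C := ⟨⟨p₁, rfl⟩⟩
  obtain ⟨⟨⟨⟨⟨x, U₀, W₀⟩, hb, hxa, hU, hW⟩, hcard⟩, hcard₁⟩, hmax₂⟩ :=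
    Finite.exists_max fun p : C => Nat.card (fixedBy Ω p.1.1.1.1)
  replace hcard : Nat.card U₀ = Nat.card p₀.1.2.1 := hcard
  replace hcard₁ : Nat.card W₀ = Nat.card p₁.1.1.2.2 := hcard₁
  refine ⟨x, U₀, hb, hxa, hU, fun y c U hy hyU => ?_, fun y U V hy hya hyU he hV => ?_,
    fun y U V hy hya hyU he hV hle => ?_⟩
  · obtain ⟨p, hp⟩ := hat y c U hy hyU
    rw [← hp, hcard]
    exact hmax p
  · exact ⟨W₀, hW, hcard₁ ▸ hmax₁ ⟨⟨(y, U, V), hy, hya, hyU, hV⟩, he.trans hcard⟩⟩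
  · refine hmax₂ ⟨⟨⟨(y, U, V), hy, hya, hyU, hV⟩, he.trans hcard⟩, le_antisymm ?_ ?_⟩
    · exact hmax₁ ⟨⟨(y, U, V), hy, hya, hyU, hV⟩, he.trans hcard⟩
    · exact hcard₁ ▸ hle W₀ hW

/-- Commuting members at a point of the line map injectively into `R`. -/
theorem card_le_of_line_members (h : ClosedSetting D Ω) {x : G} {a : Ω} (hx : IsBad Ω x)
    (hxa : x • a = a) {R : Subgroup G} (hR4 : 4 ≤ Nat.card R)
    (hmem : ∀ r ∈ R, r ≠ 1 → r ∈ dat D a) (hcomm : ∀ r ∈ R, Commute x r)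
    (hline : ∀ d ∈ dat D a, Commute x d → ∃ r ∈ R, ∀ c : Ω, x • c = c → d • c = r • c)
    {c : Ω} {U : Subgroup G} (hU : MemberGroup D x c U) : Nat.card U ≤ Nat.card R := by
  classical
  by_cases hbot : U = ⊥
  · rw [hbot, Subgroup.card_bot]; exact Nat.card_pos
  obtain ⟨u₀, hu₀, hu₀1⟩ := U.bot_or_exists_ne_one.resolve_left hbot
  -- move `c` to `a`
  obtain ⟨g, hg, hgc⟩ : ∃ g : G, Commute x g ∧ g • c = a := by
    by_cases hca : c = a
    · exact ⟨1, Commute.one_right x, by rw [one_smul, hca]⟩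
    obtain ⟨r, hr, hr1⟩ : ∃ r ∈ R, r ≠ 1 := R.bot_or_exists_ne_one.resolve_left fun e => by
      rw [e, Subgroup.card_bot] at hR4; omega
    obtain ⟨g, hg, hgr⟩ := h.exists_conj_commute (hU.member u₀ hu₀ hu₀1) (hmem r hr hr1) hca
      (hU.comm u₀ hu₀) (hcomm r hr)
    refine ⟨g, hg, h.fixed_unique r (hmem r hr hr1).1 _ _ ?_ (hmem r hr hr1).2⟩
    rw [← hgr]
    exact (h.toOnePoint.conj_mem_dat g (hU.member u₀ hu₀ hu₀1)).2
  have hd : ∀ u : G, u ∈ U → u ≠ 1 → g * u * g⁻¹ ∈ dat D a ∧ Commute x (g * u * g⁻¹) := by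
    intro u hu hu1
    exact ⟨hgc ▸ h.toOnePoint.conj_mem_dat g (hU.member u hu hu1),
      (hg.mul_right (hU.comm u hu)).mul_right hg.inv_right⟩
  obtain ⟨b, hxb, hba⟩ : ∃ b : Ω, x • b = b ∧ b ≠ a := by
    obtain ⟨-, p, q, hpq, hp, hq⟩ := id hx
    by_cases hpa : p = a
    · exact ⟨q, hq, fun e' => hpq (hpa.trans e'.symm)⟩
    · exact ⟨p, hp, hpa⟩
  let f : ↥U → ↥R := fun u => if h1 : (u : G) = 1 then 1 else
    ⟨(hline _ (hd u u.2 h1).1 (hd u u.2 h1).2).choose,
      (hline _ (hd u u.2 h1).1 (hd u u.2 h1).2).choose_spec.1⟩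
  have hf : ∀ u : ↥U, (u : G) ≠ 1 → ∀ p : Ω, x • p = p →
      (g * u * g⁻¹) • p = (f u : G) • p := fun u h1 p hp => by
    have := (hline _ (hd u u.2 h1).1 (hd u u.2 h1).2).choose_spec.2 p hp
    simp only [f, dif_neg h1]
    exact this
  have hf1 : ∀ u : ↥U, (u : G) ≠ 1 → f u ≠ 1 := fun u h1 e => by
    have hb := hf u h1 b hxb
    rw [e, OneMemClass.coe_one, one_smul] at hb
    exact hba (h.fixed_unique _ (hd u u.2 h1).1.1 b a hb (hd u u.2 h1).1.2)
  refine Nat.card_le_card_of_injective f fun u v huv => ?_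
  by_cases h1 : (u : G) = 1
  · by_cases h2 : (v : G) = 1
    · exact Subtype.ext (h1.trans h2.symm)
    · exact absurd (by rw [← huv]; simp only [f, dif_pos h1]) (hf1 v h2)
  by_cases h2 : (v : G) = 1
  · exact absurd (by rw [huv]; simp only [f, dif_pos h2]) (hf1 u h1)
  have hpts := h.ptsOf_centralizer hx.1
  set H := Subgroup.centralizer ({x} : Set G) with hH
  have hH' : ∀ {y : G}, Commute x y → y ∈ H := fun hy =>
    Subgroup.mem_centralizer_singleton_iff.2 hy.eq.symm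
  let d : ↥(coreOf D H) := ⟨g * u * g⁻¹, mem_coreOf (hd u u.2 h1).1.1 (hH' (hd u u.2 h1).2)⟩
  let e : ↥(coreOf D H) := ⟨g * v * g⁻¹, mem_coreOf (hd v v.2 h2).1.1 (hH' (hd v v.2 h2).2)⟩
  have huv' : Commute (u : G) v := by
    have hi : ∀ {y : G}, y ∈ U → y⁻¹ = y := fun hy => inv_eq_of_mul_eq_one_right (hU.sq _ hy)
    show (u : G) * v = v * u
    rw [← hi (mul_mem u.2 v.2), mul_inv_rev, hi u.2, hi v.2]
  have hde := h.rho_injective_of_commute (H := H) (a := a) (b := b)
    (hpts.symm ▸ hxa) (hpts.symm ▸ hxb) hba.symm (d := d) (e := e) (hd u u.2 h1).1.1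
    (hd v v.2 h2).1.1 (huv'.map (MulAut.conj g).toMonoidHom)
    (h.rho_eq_iff.2 fun p hp => by
      have hp' : x • p = p := by rw [hpts] at hp; exact hp
      show (g * u * g⁻¹) • p = (g * v * g⁻¹) • p
      rw [hf u h1 p hp', hf v h2 p hp', huv])
  exact Subtype.ext (mul_left_cancel (mul_right_cancel (congrArg Subtype.val hde)))

/-- A maximal choice satisfies `MaxRank` and `MaxPsi` for the members `R` of its line, and `MaxLine`
if it centralises no 2-subgroup of `K` larger than `R`. -/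
theorem Chosen.max_of_line (h : ClosedSetting D Ω) {x : G} {K U₀ : Subgroup G} {a : Ω}
    (hc : Chosen D a K x U₀) (hK : ∀ d ∈ dat D a, d ∈ K) {R : Subgroup G}
    (hR4 : 4 ≤ Nat.card R) (hsq : ∀ r ∈ R, r * r = 1)
    (hmem : ∀ r ∈ R, r ≠ 1 → r ∈ dat D a) (hcomm : ∀ r ∈ R, Commute x r)
    (hline : ∀ d ∈ dat D a, Commute x d → ∃ r ∈ R, ∀ c : Ω, x • c = c → d • c = r • c) :
    MaxRank D Ω R ∧ MaxPsi a K R x ∧
      ((∀ W : Subgroup G, CentTwo K x W → Nat.card W ≤ Nat.card R) → MaxLine Ω R x) := by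
  haveI : Fact (Nat.Prime 2) := ⟨Nat.prime_two⟩
  have he : Nat.card R = Nat.card U₀ := le_antisymm (hc.rank x a R hc.bad ⟨hsq, hmem, hcomm⟩)
    (card_le_of_line_members h hc.bad hc.fix hR4 hmem hcomm hline hc.group)
  refine ⟨fun y c U hy h1 h2 h3 => he ▸ hc.rank y c U hy ⟨h1, h2, h3⟩,
    fun y hy hya hyR V hV hVK hyV => ?_, fun hle y hy hyR => ?_⟩
  · obtain ⟨W, hW, hVW⟩ := hc.psi y R V hy hya ⟨hsq, hmem, hyR⟩ he ⟨hV, hVK, hyV⟩
    exact ⟨W, hW.two, hW.le, hW.comm, hVW⟩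
  · obtain ⟨r, hr, hr1⟩ : ∃ r ∈ R, r ≠ 1 := R.bot_or_exists_ne_one.resolve_left fun e => by
      rw [e, Subgroup.card_bot] at hR4; omega
    have hyU : MemberGroup D y a R := ⟨hsq, hmem, hyR⟩
    refine hc.fixes y R R hy (hyU.fix h hr hr1) hyU he ⟨?_, fun g hg => ?_, hyR⟩ hle
    · exact fun g => ⟨1, Subtype.ext (by
        rw [pow_one, SubgroupClass.coe_pow, pow_two]; exact hsq g g.2)⟩
    · by_cases hg1 : g = 1
      · rw [hg1]; exact one_mem K
      · exact hK g (hmem g hg hg1)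

end CfsgLib.LocalEven.OnePointFront.Nonfull
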