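import Cfsg.Agent.Lib.LocalEven.OnePointFront.FullBasic

/-!
# Involutions with a fixed point are members or bad
-/

set_option autoImplicit false

namespace CfsgLib.LocalEven.OnePointFront

open MulAction CfsgLib.LocalEven.TIEndgame CfsgLib.Involution

universe u

variable {G Ω : Type u} [Group G] [Finite G] [MulAction G Ω] [Finite Ω] [FaithfulSMul G Ω]
  {D : Set G}

/-- An involution with one fixed point is a member. -/
theorem ClosedSetting.mem_or_bad (h : ClosedSetting D Ω) {g : G} {a : Ω} (hg : orderOf g = 2)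
    (hga : g • a = a) : g ∈ D ∨ IsBad Ω g := by
  by_cases hbad : IsBad Ω g
  · exact Or.inr hbad
  refine Or.inl ?_
  have hone : ∀ c : Ω, g • c = c → c = a := fun c hc => by
    by_contra hca
    exact hbad ⟨hg, c, a, hca, hc, hga⟩
  obtain ⟨c, hc⟩ : ∃ c : Ω, g • c ≠ c := by
    by_contra hall
    push Not at hall
    exact Dihedral.ne_one hg (FaithfulSMul.eq_of_smul_eq_smul (α := Ω) fun c => by
      rw [hall c, one_smul])
  obtain ⟨e, he⟩ := OnePoint.dat_nonempty h.covers c
  have hgg : g * g = 1 := Dihedral.mul_self hg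
  have he' : g * e * g⁻¹ ∈ dat D (g • c) := h.toOnePoint.conj_mem_dat g he
  obtain ⟨f, ⟨hfD, hfe⟩, huniq⟩ := h.toOnePoint.existsUnique_middle he he' (Ne.symm hc)
  have hff : f * f = 1 := h.toOnePoint.mul_self hfD
  have hfg : Commute g f := by
    have h1 : g * f * g⁻¹ = f := by
      refine huniq _ ⟨h.conj_mem g f hfD, ?_⟩
      have h2 : f * (g * e * g⁻¹) * f⁻¹ = e := by
        rw [← hfe, h.toOnePoint.inv_eq hfD, ← mul_assoc, ← mul_assoc, hff, one_mul, mul_assoc,
          hff, mul_one]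
      calc g * f * g⁻¹ * e * (g * f * g⁻¹)⁻¹ = g * (f * (g⁻¹ * e * g) * f⁻¹) * g⁻¹ := by group
        _ = g * (f * (g * e * g⁻¹) * f⁻¹) * g⁻¹ := by rw [Dihedral.inv_eq hg]
        _ = g * e * g⁻¹ := by rw [h2]
    exact mul_inv_eq_iff_eq_mul.1 h1
  have hfc : f • c = g • c := h.toOnePoint.smul_eq_of_conj_eq he he' hfe
  obtain ⟨p, hp⟩ := h.exists_fixed f hfD
  obtain rfl := hone p (h.toOnePoint.fix_of_commute hfD hp hfg.symm)
  by_cases h1 : g * f = 1
  · rw [mul_eq_one_iff_eq_inv.1 h1, h.toOnePoint.inv_eq hfD]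
    exact hfD
  have hz : IsBad Ω (g * f) := by
    refine ⟨orderOf_eq_prime ?_ h1, p, c, fun e' => hc (e' ▸ hga), ?_, ?_⟩
    · rw [pow_two, hfg.symm.mul_mul_mul_comm, hgg, hff, one_mul]
    · rw [mul_smul, hp, hga]
    · rw [mul_smul, hfc, ← mul_smul, hgg, one_smul]
  have hb := h.bad_mul_member hz (a := p) (r := f) (by rw [mul_smul, hp, hga]) ⟨hfD, hp⟩
    (hfg.mul_left (Commute.refl f))
  rw [mul_assoc, hff, mul_one] at hb
  exact absurd hb hbad

end CfsgLib.LocalEven.OnePointFront
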