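import Cfsg.Agent.Lib.LocalEven.OnePointFront.Nonfull.BStar
import Cfsg.Agent.Lib.LocalEven.OnePointFront.Nonfull.Good
import Cfsg.Agent.Lib.Fusion.Thompson
import Cfsg.Agent.Lib.LocalEven.TIEndgame.TransferHom

/-!
# Maximal point groups

A point group can be enlarged to a maximal one.  Let `T` be a Sylow 2-subgroup of a maximal point
group `K` and `N` a subgroup of the normaliser of `T` at `a`, normalised by that normaliser.  If no
involution of `T ⊔ N` is bad, `N` lies in `K`.
-/

set_option autoImplicit false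
set_option linter.style.haveILetI false

namespace CfsgLib.LocalEven.OnePointFront.Nonfull

open MulAction CfsgLib.LocalEven.TIEndgame CfsgLib.Involution

universe u

variable {G Ω : Type u} [Group G] [MulAction G Ω] {D : Set G} {a : Ω}

/-- A point group contained in no larger one. -/
structure MaxPointGroup (D : Set G) (a : Ω) (K : Subgroup G) : Prop extends PointGroup D a K where
  maximal : ∀ K' : Subgroup G, PointGroup D a K' → K ≤ K' → K' = K

/-- A point group lies in a maximal one. -/
theorem exists_maxPointGroup [Finite G] {K : Subgroup G} (hK : PointGroup D a K) :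
    ∃ K' : Subgroup G, MaxPointGroup D a K' ∧ K ≤ K' := by
  obtain ⟨K', hle, hK'⟩ := Set.Finite.exists_le_maximal
    (Set.toFinite {L : Subgroup G | PointGroup D a L}) hK
  exact ⟨K', ⟨hK'.prop, fun L hL hle' => le_antisymm (hK'.2 hL hle') hle'⟩, hle⟩

variable [Finite G] [Finite Ω] [FaithfulSMul G Ω]

/-- A subgroup of the normaliser of a Sylow 2-subgroup `T` lies in a maximal point group when it is
normalised by that normaliser and adds no bad involution to `T`. -/
theorem MaxPointGroup.le_of_no_bad {K T N : Subgroup G} (hK : MaxPointGroup D a K)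
    (h : ClosedSetting D Ω) (hT : IsPGroup 2 T) (hTK : T ≤ K) (hodd : Odd (T.relIndex K))
    (hN : N ≤ stabilizer G a ⊓ Subgroup.normalizer (T : Set G))
    (hnorm : ∀ g ∈ stabilizer G a ⊓ Subgroup.normalizer (T : Set G), ∀ n ∈ N, g * n * g⁻¹ ∈ N)
    (hbad : ∀ v ∈ T ⊔ N, ¬ IsBad Ω v) : N ≤ K := by
  haveI : Fact (Nat.Prime 2) := ⟨Nat.prime_two⟩
  have hNK : N ≤ Subgroup.normalizer (K : Set G) := fun g hg => by
    refine Subgroup.mem_normalizer_iff.2 fun k => ⟨hK.conj g (hN hg).1 k, fun hk => ?_⟩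
    have := hK.conj g⁻¹ (inv_mem (hN hg).1) _ hk
    rwa [show g⁻¹ * (g * k * g⁻¹) * g⁻¹⁻¹ = k by group] at this
  have hP : PointGroup D a (K ⊔ N) := by
    refine ⟨sup_le hK.le (hN.trans inf_le_left), ?_, fun d hd => Subgroup.mem_sup_left (hK.dat_le d hd),
      ?_⟩
    · intro g hg x hx
      -- Frattini: modulo `K` the element `g` normalises `T`
      obtain ⟨TS, hTS⟩ : ∃ S : Sylow 2 K, (S : Subgroup K) = T.subgroupOf K :=
        ⟨(hT.of_equiv (Subgroup.subgroupOfEquivOfLe hTK).symm).toSylow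
          fun hd => Nat.not_even_iff_odd.2 hodd (even_iff_two_dvd.2 hd), rfl⟩
      set T' := T.map (MulAut.conj g).toMonoidHom
      have hT'K : T' ≤ K := by
        rintro _ ⟨t, ht, rfl⟩
        exact hK.conj g hg t (hTK ht)
      obtain ⟨k, hk⟩ := Basic.exists_conj_le TS
        ((hT.map _).of_equiv (Subgroup.subgroupOfEquivOfLe hT'K).symm)
      have hkg : (k : G) * g ∈ stabilizer G a ⊓ Subgroup.normalizer (T : Set G) := by
        refine ⟨mul_mem (hK.le k.2) hg, Subgroup.mem_normalizer_iff_map_conj_eq.2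
          (Subgroup.eq_of_le_of_card_ge ?_
            (Subgroup.card_map_of_injective (MulAut.conj ((k : G) * g)).injective).ge)⟩
        rintro _ ⟨t, ht, rfl⟩
        have hmem : g * t * g⁻¹ ∈ T' := ⟨t, ht, rfl⟩
        have h3 : k * (⟨_, hT'K hmem⟩ : K) * k⁻¹ ∈ (TS : Subgroup K) := hk ⟨_, hT'K hmem⟩ hmem
        rw [hTS] at h3
        have h4 : ((k * ⟨_, hT'K hmem⟩ * k⁻¹ : K) : G) ∈ T := h3
        show (k : G) * g * t * ((k : G) * g)⁻¹ ∈ T
        simpa [mul_assoc] using h4
      have hle : K ⊔ N ≤ (K ⊔ N).comap (MulAut.conj ((k : G) * g)).toMonoidHom :=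
        sup_le (fun y hy => Subgroup.mem_sup_left (hK.conj _ hkg.1 y hy))
          (fun y hy => Subgroup.mem_sup_right (hnorm _ hkg y hy))
      have h1 : (k : G) * g * x * ((k : G) * g)⁻¹ ∈ K ⊔ N := hle hx
      have hkKN : (k : G) ∈ K ⊔ N := Subgroup.mem_sup_left k.2
      have := mul_mem (mul_mem (inv_mem hkKN) h1) hkKN
      simpa [mul_assoc] using this
    · intro v hv hv2
      -- a conjugate of `v` in `K ⊔ N` lies in `T ⊔ N`
      obtain ⟨P⟩ : Nonempty (Sylow 2 ↥(T ⊔ N)) := inferInstance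
      set P' := (P : Subgroup ↥(T ⊔ N)).map (T ⊔ N).subtype with hP'
      have hTN : T ⊔ N ≤ K ⊔ N := sup_le_sup_right hTK N
      have hP'le : P' ≤ K ⊔ N := (Subgroup.map_subtype_le _).trans hTN
      have hP'odd : Odd (P'.relIndex (T ⊔ N)) := by
        rw [hP', Subgroup.relIndex,
          Subgroup.subgroupOf,
          Subgroup.comap_map_eq_self_of_injective (T ⊔ N).subtype_injective]
        exact TransferHom.odd_index_sylow P
      have hsup : Odd ((T ⊔ N).relIndex (K ⊔ N)) := by
        have e : K ⊔ N = K ⊔ (T ⊔ N) :=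
          le_antisymm (sup_le_sup_left le_sup_right K) (sup_le le_sup_left hTN)
        have h1 := Fusion.Thompson.card_sup_mul_card_inf (N := K) (K := T ⊔ N)
          (sup_le (hTK.trans Subgroup.le_normalizer) hNK)
        have hcard : ∀ {A B : Subgroup G}, A ≤ B → Nat.card A * A.relIndex B = Nat.card B :=
          fun {A B} hAB => by
            rw [← Subgroup.relIndex_bot_left A, ← Subgroup.relIndex_bot_left B,
              Subgroup.relIndex_mul_relIndex ⊥ A B bot_le hAB]
        rw [← e, ← hcard hTN, ← hcard (inf_le_left : K ⊓ (T ⊔ N) ≤ K)] at h1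
        have h2 : (T ⊔ N).relIndex (K ⊔ N) = (K ⊓ (T ⊔ N)).relIndex K :=
          Nat.eq_of_mul_eq_mul_left
            (Nat.mul_pos (Nat.card_pos (α := ↥(T ⊔ N))) (Nat.card_pos (α := ↥(K ⊓ (T ⊔ N)))))
            (by linarith)
        rw [h2]
        exact hodd.of_dvd_nat (Subgroup.relIndex_dvd_of_le_left K (le_inf hTK le_sup_left))
      have hindex : Odd (P'.relIndex (K ⊔ N)) := by
        rw [← Subgroup.relIndex_mul_relIndex P' (T ⊔ N) (K ⊔ N) (Subgroup.map_subtype_le _) hTN]
        exact hP'odd.mul hsup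
      let S : Sylow 2 ↥(K ⊔ N) := (((P.2).map (T ⊔ N).subtype).of_equiv
        (Subgroup.subgroupOfEquivOfLe hP'le).symm).toSylow
        fun hd => Nat.not_even_iff_odd.2 hindex (even_iff_two_dvd.2 hd)
      obtain ⟨g, hg⟩ := Basic.exists_conj_le S (Basic.isPGroup_zpowers_of_two
        ((Subgroup.orderOf_mk v hv).trans hv2))
      have hmem : ((g * (⟨v, hv⟩ : ↥(K ⊔ N)) * g⁻¹ : ↥(K ⊔ N)) : G) ∈ P' :=
        hg _ (Subgroup.mem_zpowers _)
      have hmem' : (g : G) * v * (g : G)⁻¹ ∈ T ⊔ N := Subgroup.map_subtype_le _ hmem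
      have hga : (g : G) • a = a := mem_stabilizer_iff.1
        ((sup_le hK.le (hN.trans inf_le_left) : K ⊔ N ≤ stabilizer G a) g.2)
      have hva : v • a = a := mem_stabilizer_iff.1
        ((sup_le hK.le (hN.trans inf_le_left) : K ⊔ N ≤ stabilizer G a) hv)
      rcases h.mem_or_bad hv2 hva with hD | hb
      · exact ⟨hD, hva⟩
      · exact absurd (isBad_conj (g : G) hb) (hbad _ hmem')
  exact hK.maximal _ hP le_sup_left ▸ le_sup_right

end CfsgLib.LocalEven.OnePointFront.Nonfull
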