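import Cfsg.Agent.Lib.LocalEven.OnePointFront.Nonfull.NoBigLine
import Cfsg.Agent.Lib.LocalEven.OnePointFront.Nonfull.MaxChoice
import Cfsg.Agent.Lib.LocalEven.OnePointFront.Nonfull.MaxPoint
import Cfsg.Agent.Lib.LocalEven.OnePointFront.Nonfull.Linear.Endgame
import Cfsg.Agent.Lib.LocalEven.OnePointFront.Nonfull.Curved.Produce
import Cfsg.Agent.Lib.LocalEven.OnePointFront.Abelian

/-!
# The nonfull case from the pieces on the three kinds of lines

With a maximal choice of the bad involution, its line is linear, Suzuki or unitary.  The linear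
lines are excluded by one class and the cyclic centraliser; the two curved cases are hypotheses.
-/

set_option autoImplicit false
set_option linter.style.haveILetI false

namespace CfsgLib.LocalEven.OnePointFront.Nonfull

open MulAction CfsgLib.LocalEven.TIEndgame

universe u

variable {G : Type u} {Ω : Type u} [Group G] [Finite G] [MulAction G Ω] [Finite Ω]
  [FaithfulSMul G Ω] {D : Set G}

/-- No line of a maximally chosen bad involution is a unitary one. -/
def UnitaryHyp (D : Set G) (Ω : Type u) [MulAction G Ω] : Prop :=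
  ∀ (a : Ω) (x : G) (K R Q J : Subgroup G), UnitaryLine D a x K R Q J → MaxPointGroup D a K →
    MaxRank D Ω R → MaxPsi a K R x → False

/-- No line of a maximally chosen bad involution is a Suzuki one. -/
def SuzukiHyp (D : Set G) (Ω : Type u) [MulAction G Ω] : Prop :=
  ∀ (a : Ω) (x : G) (K R Q J : Subgroup G), SuzukiLine D a x K R Q J → MaxPointGroup D a K →
    MaxRank D Ω R → MaxPsi a K R x → False

/-- A linear line of a maximally chosen bad involution is contradictory. -/
theorem false_of_linearLine (h : FrontMin G Ω D) (hone : OneClassHyp D Ω) (hcyc : CyclicHyp D Ω)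
    {a : Ω} {x : G} {K R J : Subgroup G} (L : LinearLine D a x K R J) (hmax : MaxLine Ω R x) :
    False := by
  obtain ⟨S, hS, hxS, -, h1⟩ := hone a x K R J L
  exact false_of_oneClass h.toClosedSetting h.gen L.point hS L.bad hxS h1
    (hcyc a x K R J L hmax _ (hS.1.to_le inf_le_left) (inf_le_inf_right _ hS.2.1))

omit [Finite Ω] [FaithfulSMul G Ω] in
/-- On a linear line no 2-subgroup of the point group centralised by `x` is larger than `R`. -/
theorem LinearLine.card_le {a : Ω} {x : G} {K R J : Subgroup G} (h : ClosedSetting D Ω)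
    (L : LinearLine D a x K R J) {W : Subgroup G} (hW : CentTwo K x W) :
    Nat.card W ≤ Nat.card R := by
  obtain ⟨b, hxb, hba⟩ : ∃ b : Ω, x • b = b ∧ b ≠ a := by
    obtain ⟨-, p, q, hpq, hp, hq⟩ := id L.bad
    by_cases hpa : p = a
    · exact ⟨q, hq, fun e' => hpq (hpa.trans e'.symm)⟩
    · exact ⟨p, hp, hpa⟩
  have hWa : ∀ w ∈ W, w • a = a := fun w hw => mem_stabilizer_iff.1 (L.point.le (hW.le hw))
  have hex : ∀ w : ↥W, ∃ r : ↥R, (r : G) • b = (w : G) • b := fun w => by
    obtain ⟨r, hr, he⟩ := L.trans b ((w : G) • b) hxb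
      (by rw [← mul_smul, (hW.comm w w.2).eq, mul_smul, hxb]) hba
      (fun e => hba (smul_left_cancel (w : G) (e.trans (hWa w w.2).symm)))
    exact ⟨⟨r, hr⟩, he⟩
  choose f hf using hex
  refine Nat.card_le_card_of_injective f fun v w hvw => ?_
  have hb : ((w⁻¹ * v : ↥W) : G) • b = b := by
    rw [Subgroup.coe_mul, Subgroup.coe_inv, mul_smul, ← hf v, hvw, hf w, inv_smul_smul]
  by_contra hne
  have h1 : w⁻¹ * v ≠ 1 := fun e => hne (inv_mul_eq_one.1 e).symm
  obtain ⟨k, hk⟩ := IsPGroup.exists_orderOf_eq_pow hW.two (w⁻¹ * v)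
  have hk0 : k ≠ 0 := by
    rintro rfl
    exact h1 (orderOf_eq_one_iff.1 (by simpa using hk))
  have hz := orderOf_pow_orderOf_div (x := w⁻¹ * v) (orderOf_pos _).ne' (hk ▸ dvd_pow_self 2 hk0)
  set z := (w⁻¹ * v) ^ (orderOf (w⁻¹ * v) / 2)
  have hzd := L.point.invol_mem z (hW.le z.2) ((Subgroup.orderOf_coe z).trans hz)
  refine hba (h.fixed_unique _ hzd.1 b a ?_ hzd.2)
  exact (pow_mem (show ((w⁻¹ * v : ↥W) : G) ∈ stabilizer G b from hb) _ : _)

/-- The nonfull case. -/
theorem noBad_of_nonfull (h : FrontMin G Ω D) (hnf : NoFull D Ω) (hone : OneClassHyp D Ω)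
    (hcyc : CyclicHyp D Ω) (hU : UnitaryHyp D Ω) (hS : SuzukiHyp D Ω) : NoBad G Ω := by
  intro x₁ hx₁
  have hC : ClosedSetting D Ω := h.toClosedSetting
  obtain ⟨y, hy, hbigy⟩ : ∃ y : G, IsBad Ω y ∧ BigLine D Ω y := by
    by_contra hno
    exact false_of_no_big h hnf (fun y hy hb => hno ⟨y, hy, hb⟩) hx₁
  obtain ⟨-, a, -, -, -, -⟩ := id hx₁
  obtain ⟨K₀, hK₀⟩ := exists_pointGroup h.good h.orderOf_eq a
  obtain ⟨K, hK, -⟩ := exists_maxPointGroup hK₀
  obtain ⟨x, U₀, hc⟩ := exists_chosen (D := D) hC a K ⟨x₁, hx₁⟩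
  have hxc₀ := hc.fix
  have hU₀ := hc.group
  have hbig : BigLine D Ω x := by
    classical
    -- the four group of the line of `y` bounds the rank from below
    obtain ⟨c, -, r, hr, s, hs, hrs, hcom, hyr, hys⟩ := hbigy
    have hrr := hC.toOnePoint.mul_self hr.1
    have hss := hC.toOnePoint.mul_self hs.1
    let W : Subgroup G := TwoLine.four r s hrr hss hcom
    have hW : MemberGroup D y c W := by
      refine ⟨fun u hu => TwoLine.four_sq hu, fun u hu hu1 => ?_, fun u hu => ?_⟩
      · rcases TwoLine.mem_four.1 hu with rfl | rfl | rfl | rfl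
        · exact absurd rfl hu1
        · exact hr
        · exact hs
        · exact (hC.mul_mem_dat hs hr hcom.symm).resolve_left hu1
      · rcases TwoLine.mem_four.1 hu with rfl | rfl | rfl | rfl
        exacts [Commute.one_right y, hyr, hys, hys.mul_right hyr]
    have hr1 : r ≠ 1 := CfsgLib.Involution.Dihedral.ne_one (hC.orderOf_eq r hr.1)
    have hs1 : s ≠ 1 := CfsgLib.Involution.Dihedral.ne_one (hC.orderOf_eq s hs.1)
    haveI : Fintype ↥W := Fintype.ofFinite _
    have h3 : ({1, ⟨r, TwoLine.mem_four.2 (Or.inr (Or.inl rfl))⟩,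
        ⟨s, TwoLine.mem_four.2 (Or.inr (Or.inr (Or.inl rfl)))⟩} : Finset ↥W).card = 3 :=
      Finset.card_eq_three.2 ⟨_, _, _, fun e => hr1 (congrArg Subtype.val e).symm,
        fun e => hs1 (congrArg Subtype.val e).symm, fun e => hrs (congrArg Subtype.val e), rfl⟩
    have h4 := Finset.card_le_univ ({1, ⟨r, TwoLine.mem_four.2 (Or.inr (Or.inl rfl))⟩,
        ⟨s, TwoLine.mem_four.2 (Or.inr (Or.inr (Or.inl rfl)))⟩} : Finset ↥W)
    rw [h3, ← Nat.card_eq_fintype_card] at h4
    have hU3 : 3 ≤ Nat.card U₀ := h4.trans (hc.rank y c W hy hW)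
    obtain ⟨p, hp, hp1⟩ : ∃ p ∈ U₀, p ≠ 1 := U₀.bot_or_exists_ne_one.resolve_left fun e => by
      rw [e, Subgroup.card_bot] at hU3; omega
    obtain ⟨q, hq, hq1, hqp⟩ : ∃ q ∈ U₀, q ≠ 1 ∧ q ≠ p := by
      by_contra hall
      push Not at hall
      haveI : Fintype ↥U₀ := Fintype.ofFinite _
      have hle := Finset.card_le_card (s := (Finset.univ : Finset ↥U₀)) (t := {1, ⟨p, hp⟩})
        fun e _ => by
          rcases eq_or_ne (e : G) 1 with he | he
          · simp [show e = 1 from Subtype.ext he]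
          · simp [show e = ⟨p, hp⟩ from Subtype.ext (hall e e.2 he)]
      rw [Finset.card_univ, ← Nat.card_eq_fintype_card] at hle
      have := Finset.card_le_two (a := (1 : ↥U₀)) (b := ⟨p, hp⟩)
      omega
    have hinv : ∀ {u : G}, u ∈ U₀ → u⁻¹ = u := fun hu =>
      inv_eq_of_mul_eq_one_right (hU₀.sq _ hu)
    refine ⟨a, hxc₀, p, hU₀.member p hp hp1, q, hU₀.member q hq hq1, Ne.symm hqp, ?_,
      hU₀.comm p hp, hU₀.comm q hq⟩
    show p * q = q * p
    rw [← hinv (mul_mem hp hq), mul_inv_rev, hinv hp, hinv hq]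
  obtain ⟨K', R, hline⟩ := FrontMin.exists_line h hc.bad hxc₀ hbig
  rcases hline with ⟨J, L⟩ | ⟨Q, J, L⟩ | ⟨Q, J, L⟩
  · obtain ⟨-, -, hml⟩ :=
      hc.max_of_line hC hK.dat_le L.four L.sq L.member L.comm L.line_members
    have L' : LinearLine D a x K R J := { L with point := hK.toPointGroup }
    exact false_of_linearLine h hone hcyc L' (hml fun W hW => LinearLine.card_le hC L' hW)
  · obtain ⟨hmr, hmp, -⟩ := hc.max_of_line hC hK.dat_le L.four L.sq L.member
      (fun r hr => L.comm r (L.le hr)) L.line_members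
    exact hS a x K R Q J { L with point := hK.toPointGroup } hK hmr hmp
  · obtain ⟨hmr, hmp, -⟩ := hc.max_of_line hC hK.dat_le L.four L.sq L.member
      (fun r hr => L.comm r (L.le hr)) L.line_members
    exact hU a x K R Q J { L with point := hK.toPointGroup } hK hmr hmp

end CfsgLib.LocalEven.OnePointFront.Nonfull
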