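import Cfsg.Agent.Lib.LocalEven.OnePointFront.Setup
import Cfsg.Agent.Lib.LocalEven.TIEndgame.CyclicTransfer
import Cfsg.Agent.Lib.LocalEven.TIEndgame.TransferHom

/-!
# Transfer into a cyclic quotient of a maximal 2-subgroup of a point stabiliser

The stabiliser of a point has odd index, so a maximal 2-subgroup `S` of it is a Sylow 2-subgroup:
`S` has no cyclic quotient whose kernel contains the members in `S` and avoids the conjugates of a
bad involution.
-/

set_option autoImplicit false

namespace CfsgLib.LocalEven.OnePointFront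

open MulAction CfsgLib.LocalEven.TIEndgame

universe u v

variable {G : Type u} {Ω : Type v} [Group G] [Finite G] [MulAction G Ω] [Finite Ω] {D : Set G}

/-- A maximal 2-subgroup of a point stabiliser is a Sylow 2-subgroup. -/
theorem ClosedSetting.exists_sylow_eq (h : ClosedSetting D Ω) {a : Ω} {S : Subgroup G}
    (hS : IsTopTwo S a) : ∃ P : Sylow 2 G, (P : Subgroup G) = S := by
  haveI : Fact (Nat.Prime 2) := ⟨Nat.prime_two⟩
  let T : Sylow 2 ↥(stabilizer G a) :=
    { toSubgroup := S.subgroupOf (stabilizer G a)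
      isPGroup' := hS.1.comap_subtype
      is_maximal' := fun {V} hV hle => by
        refine le_antisymm (fun v hv => ?_) hle
        have := hS.2.2 (V.map (stabilizer G a).subtype) (hV.map _) (Subgroup.map_subtype_le V)
          (fun y hy => ⟨⟨y, hS.2.1 hy⟩, hle hy, rfl⟩)
        exact this.le ⟨v, hv, rfl⟩ }
  have hidx : ¬ 2 ∣ S.index := by
    rw [← Subgroup.relIndex_mul_index hS.2.1, Nat.prime_two.dvd_mul, not_or]
    exact ⟨T.not_dvd_index, fun h2 => Nat.not_even_iff_odd.2
      (h.toOnePoint.odd_index_stabilizer h.covers a) (even_iff_two_dvd.2 h2)⟩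
  obtain ⟨P, hP⟩ := hS.1.exists_le_sylow
  refine ⟨P, le_antisymm ?_ hP⟩
  have h1 := Subgroup.relIndex_mul_index hP
  obtain ⟨n, hn⟩ := P.2.index (S.subgroupOf (P : Subgroup G))
  rcases n with _ | n
  · exact Subgroup.relIndex_eq_one.1 hn
  · exact absurd (h1 ▸ Dvd.dvd.mul_right (by rw [Subgroup.relIndex, hn, pow_succ]; exact dvd_mul_left 2 _) _) hidx

/-- No cyclic quotient of a maximal 2-subgroup at `a` kills the members and no conjugate of the
bad involution `x`. -/
theorem ClosedSetting.false_of_cyclic_top (h : ClosedSetting D Ω) (hgen : Subgroup.closure D = ⊤)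
    {a : Ω} {S : Subgroup G} (hS : IsTopTwo S a) (S₀ : Subgroup ↥S) [S₀.Normal]
    [IsCyclic (↥S ⧸ S₀)] {x : G} (hx : IsBad Ω x) (hxS : x ∈ S)
    (hmem : ∀ d ∈ D, ∀ hd : d ∈ S, (⟨d, hd⟩ : S) ∈ S₀)
    (hbad : ∀ (g : G) (hg : g * x * g⁻¹ ∈ S), (⟨g * x * g⁻¹, hg⟩ : S) ∉ S₀) : False := by
  obtain ⟨P, rfl⟩ := h.exists_sylow_eq hS
  have hx2 : x * x = 1 := by rw [← pow_two, ← hx.1, pow_orderOf_eq_one]
  refine closure_ne_top_of_cyclic_quotient P S₀ D (fun d hd => h.toOnePoint.mul_self hd) hx2 hxS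
    (fun g hg => ?_) (fun d hd g hg => hmem _ ?_ hg) hgen
  · have := hbad g⁻¹ (by rwa [inv_inv])
    simpa using this
  · have := h.conj_mem g⁻¹ d hd
    rwa [inv_inv] at this

end CfsgLib.LocalEven.OnePointFront
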