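import Cfsg.Agent.Lib.LocalEven.OnePointFront.Nonfull.Assembly
import Cfsg.Agent.Lib.LocalEven.OnePointFront.FullCase
import Cfsg.Agent.Lib.LocalEven.OnePointFront.Main

/-!
# No bad involutions in closed settings with good point groups, from the pieces on the lines
-/

set_option autoImplicit false

namespace CfsgLib.LocalEven.OnePointFront.Nonfull

open MulAction CfsgLib.LocalEven.TIEndgame

universe u

/-- The pieces on the three kinds of lines in every least configuration without full bad involutions. -/
def LineHyps : Prop :=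
  ∀ (G : Type u) [Group G] [Finite G] (Ω : Type u) [Finite Ω] [MulAction G Ω] [FaithfulSMul G Ω]
    (D : Set G), FrontMin G Ω D → NoFull D Ω →
      OneClassHyp D Ω ∧ CyclicHyp D Ω ∧ UnitaryHyp D Ω ∧ SuzukiHyp D Ω

/-- `GoodNoBad` from the pieces on the lines. -/
theorem goodNoBad_of_lines (hyp : LineHyps.{u}) : GoodNoBad.{u} :=
  goodNoBad_of_step <| frontStep_of
    fun G _ _ Ω _ _ _ D h hnf =>
      noBad_of_nonfull h hnf (hyp G Ω D h hnf).1 (hyp G Ω D h hnf).2.1 (hyp G Ω D h hnf).2.2.1
        (hyp G Ω D h hnf).2.2.2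

end CfsgLib.LocalEven.OnePointFront.Nonfull
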