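import Cfsg.Agent.Lib.LocalEven.OnePointFront.Nonfull.Good
import Cfsg.Agent.Lib.LocalEven.OnePointFront.Nonfull.BStar
import Cfsg.Agent.Lib.LocalEven.OnePointFront.Nonfull.Linear.Data
import Cfsg.Agent.Lib.LocalEven.OnePointFront.Nonfull.TwoLine.Main
import Cfsg.Agent.Lib.LocalEven.OnePointFront.PairComm

/-!
# The nonfull case: some bad involution has a big line

If every line of a bad involution carries one member at each point, the hypotheses of the two-line
endgame hold: an involution of the stabiliser outside the point group is bad.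
-/

set_option autoImplicit false
set_option linter.style.haveILetI false

namespace CfsgLib.LocalEven.OnePointFront.Nonfull

open MulAction CfsgLib.LocalEven.TIEndgame

universe u

variable {G : Type u} {Ω : Type u} [Group G] [Finite G] [MulAction G Ω] {D : Set G}

/-- An element of order two fixing `a` lies in a maximal 2-subgroup of the stabiliser. -/
theorem exists_topTwo {x : G} {a : Ω} (hx : orderOf x = 2) (hxa : x • a = a) :
    ∃ S : Subgroup G, IsTopTwo S a ∧ x ∈ S := by
  haveI : Fact (Nat.Prime 2) := ⟨Nat.prime_two⟩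
  set M := stabilizer G a
  obtain ⟨T, hT⟩ := (CfsgLib.Involution.Basic.isPGroup_zpowers_of_two
    ((Subgroup.orderOf_mk (H := M) x (mem_stabilizer_iff.2 hxa)).trans hx)).exists_le_sylow
  refine ⟨(T : Subgroup ↥M).map M.subtype, ⟨T.2.map _, Subgroup.map_subtype_le _, ?_⟩,
    ⟨⟨x, hxa⟩, hT (Subgroup.mem_zpowers _), rfl⟩⟩
  intro P' hP' hP'a hle
  have h1 : P'.subgroupOf M = T := T.is_maximal' hP'.comap_subtype fun y hy => hle ⟨y, hy, rfl⟩
  rw [← h1, Subgroup.subgroupOf_map_subtype, inf_eq_left.2 hP'a]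

omit [Finite G] in
/-- The point group at `a` given by good point groups. -/
theorem exists_pointGroup (hK : HasGood D Ω) (h2 : ∀ d ∈ D, orderOf d = 2) (a : Ω) :
    ∃ K : Subgroup G, PointGroup D a K := by
  obtain ⟨K, hle, hconj, hinv⟩ := hK
  refine ⟨K a, ⟨hle a, fun g hg k hk => ?_, fun d hd => (hinv a d (h2 d hd.1)).2 hd,
    fun k hk h2' => (hinv a k h2').1 hk⟩⟩
  have := hconj g a k hk
  rwa [mem_stabilizer_iff.1 hg] at this

variable [Finite Ω] [FaithfulSMul G Ω]

/-- The lines carrying one member at each point do not all occur in the nonfull case. -/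
theorem false_of_no_big (h : FrontMin G Ω D) (hnf : NoFull D Ω)
    (hno : ∀ y : G, IsBad Ω y → ¬ BigLine D Ω y) {x : G} (hx : IsBad Ω x) : False := by
  obtain ⟨-, a, -, -, hxa, -⟩ := id hx
  obtain ⟨P, hP, hxP⟩ := exists_topTwo hx.1 hxa
  obtain ⟨K, hK⟩ := exists_pointGroup h.good h.orderOf_eq a
  have hmoved : ∃ d ∈ D, d ∈ P ∧ ¬ Commute x d := by
    by_contra hall
    push Not at hall
    exact hnf x ⟨hx, a, P, hP, hxP, hall⟩
  refine h.toClosedSetting.false_of_two_line h.gen hP (K := K) ?_ ?_ hx hxP hmoved ?_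
  · intro g hg
    rw [Subgroup.mem_normalizer_iff]
    refine fun k => ⟨hK.conj g hg k, fun hk => ?_⟩
    have := hK.conj g⁻¹ (inv_mem hg) _ hk
    rwa [show g⁻¹ * (g * k * g⁻¹) * g⁻¹⁻¹ = k by group] at this
  · exact fun d hd hda => ⟨fun hdK => (hK.invol_mem d hdK hd).1, fun hdD => hK.dat_le d ⟨hdD, hda⟩⟩
  · intro v hv hvK V hV hVa hvV d hd hdV e he heV hvd hve
    by_contra hne
    have hva : v • a = a := mem_stabilizer_iff.1 (hVa hvV)
    rcases h.toClosedSetting.mem_or_bad hv hva with hvD | hbad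
    · exact hvK (hK.dat_le v ⟨hvD, hva⟩)
    · exact hno v hbad ⟨a, hva, d, ⟨hd, mem_stabilizer_iff.1 (hVa hdV)⟩, e,
        ⟨he, mem_stabilizer_iff.1 (hVa heV)⟩, hne,
        h.pairComm v a V hbad hva hV hVa d hd hdV e he heV hvd hve, hvd, hve⟩

end CfsgLib.LocalEven.OnePointFront.Nonfull
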